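import Mathlib

/-!
Overgroups of `SL_m(K)` in `GL_F(V)` for a field extension `K/F`: fixers, orbits and
elementary elements.
Owner: helper95.
-/
set_option autoImplicit false

namespace Cfsg.Agent.Lib.ExtFieldMax

open Module

section Orbits

variable {F V : Type*} [Field F] [AddCommGroup V] [Module F V]

/-- Elements of `H` fixing every vector of `s`. -/
def fixG (H : Subgroup (V ≃ₗ[F] V)) (s : Set V) : Subgroup (V ≃ₗ[F] V) where
  carrier := {g | g ∈ H ∧ ∀ u ∈ s, g u = u}
  one_mem' := ⟨H.one_mem, fun _ _ => rfl⟩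
  mul_mem' {g h} hg hh := ⟨H.mul_mem hg.1 hh.1, fun u hu => by
    show g (h u) = u
    rw [hh.2 u hu, hg.2 u hu]⟩
  inv_mem' {g} hg := ⟨H.inv_mem hg.1, fun u hu => by
    show g.symm u = u
    rw [g.symm_apply_eq]
    exact (hg.2 u hu).symm⟩

theorem mem_fixG {H : Subgroup (V ≃ₗ[F] V)} {s : Set V} {g : V ≃ₗ[F] V} :
    g ∈ fixG H s ↔ g ∈ H ∧ ∀ u ∈ s, g u = u := Iff.rfl

theorem inv_apply_self (g : V ≃ₗ[F] V) (x : V) : g⁻¹ (g x) = x := g.symm_apply_apply x

theorem apply_inv_self' (g : V ≃ₗ[F] V) (x : V) : g (g⁻¹ x) = x := g.apply_symm_apply x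

theorem inv_apply_of_mem_fixG {H : Subgroup (V ≃ₗ[F] V)} {s : Set V} {g : V ≃ₗ[F] V}
    (hg : g ∈ fixG H s) {u : V} (hu : u ∈ s) : g⁻¹ u = u :=
  ((fixG H s).inv_mem hg).2 u hu

theorem fixG_anti {H : Subgroup (V ≃ₗ[F] V)} {s t : Set V} (h : s ⊆ t) : fixG H t ≤ fixG H s :=
  fun _ hg => ⟨hg.1, fun u hu => hg.2 u (h hu)⟩

theorem fixG_sup_span (H : Subgroup (V ≃ₗ[F] V)) (A : Submodule F V) (u0 : V) :
    fixG H ↑(A ⊔ Submodule.span F {u0}) = fixG H (insert u0 (A : Set V)) := by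
  refine le_antisymm (fixG_anti ?_) ?_
  · rintro x (rfl | hx)
    · exact Submodule.mem_sup_right (Submodule.mem_span_singleton_self x)
    · exact Submodule.mem_sup_left hx
  · intro g hg
    refine ⟨hg.1, fun x hx => ?_⟩
    obtain ⟨a, ha, b, hb, rfl⟩ := Submodule.mem_sup.1 hx
    obtain ⟨c, rfl⟩ := Submodule.mem_span_singleton.1 hb
    rw [map_add, map_smul, hg.2 a (Or.inr ha), hg.2 u0 (Or.inl rfl)]

theorem fixG_span_singleton (H : Subgroup (V ≃ₗ[F] V)) (v : V) :
    fixG H ↑(Submodule.span F {v}) = fixG H {v} := by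
  refine le_antisymm (fixG_anti ?_) ?_
  · rintro x rfl
    exact Submodule.mem_span_singleton_self x
  · intro g hg
    refine ⟨hg.1, fun x hx => ?_⟩
    obtain ⟨c, rfl⟩ := Submodule.mem_span_singleton.1 hx
    rw [map_smul, hg.2 v rfl]

/-- The orbit of `x` under the fixer of `s`. -/
def orb (H : Subgroup (V ≃ₗ[F] V)) (s : Set V) (x : V) : Set V :=
  {y | ∃ g ∈ fixG H s, g x = y}

variable {H : Subgroup (V ≃ₗ[F] V)} {s : Set V}

theorem mem_orb_self (x : V) : x ∈ orb H s x := ⟨1, Subgroup.one_mem _, rfl⟩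

theorem orb_eq_of_mem {x y : V} (h : y ∈ orb H s x) : orb H s y = orb H s x := by
  obtain ⟨g, hg, rfl⟩ := h
  ext z
  constructor
  · rintro ⟨k, hk, rfl⟩
    exact ⟨k * g, Subgroup.mul_mem _ hk hg, rfl⟩
  · rintro ⟨k, hk, rfl⟩
    refine ⟨k * g⁻¹, Subgroup.mul_mem _ hk (Subgroup.inv_mem _ hg), ?_⟩
    show k (g⁻¹ (g x)) = k x
    rw [inv_apply_self]

theorem ne_zero_of_mem_orb {x y : V} (hx : x ≠ 0) (h : y ∈ orb H s x) : y ≠ 0 := by
  obtain ⟨g, -, rfl⟩ := h
  exact fun h0 => hx (g.map_eq_zero_iff.1 h0)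

theorem orb_image {k : V ≃ₗ[F] V} (hk : k ∈ H) (x : V) :
    orb H (k '' s) (k x) = k '' orb H s x := by
  ext z
  constructor
  · rintro ⟨g, hg, rfl⟩
    refine ⟨(k⁻¹ * g * k) x, ⟨k⁻¹ * g * k, ⟨H.mul_mem (H.mul_mem (H.inv_mem hk) hg.1) hk,
      fun u hu => ?_⟩, rfl⟩, ?_⟩
    · show k⁻¹ (g (k u)) = u
      rw [hg.2 (k u) ⟨u, hu, rfl⟩, inv_apply_self]
    · show k (k⁻¹ (g (k x))) = g (k x)
      rw [apply_inv_self']
  · rintro ⟨_, ⟨g, hg, rfl⟩, rfl⟩
    refine ⟨k * g * k⁻¹, ⟨H.mul_mem (H.mul_mem hk hg.1) (H.inv_mem hk), ?_⟩, ?_⟩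
    · rintro _ ⟨u, hu, rfl⟩
      show k (g (k⁻¹ (k u))) = k u
      rw [inv_apply_self, hg.2 u hu]
    · show k (g (k⁻¹ (k x))) = k (g x)
      rw [inv_apply_self]

/-- Orbit of a pair, counted from either side. -/
theorem card_orb_comm (x y : V) :
    Nat.card (orb H s x) * Nat.card (orb H (insert x s) y) =
      Nat.card (orb H s y) * Nat.card (orb H (insert y s) x) := by
  classical
  have key : ∀ a b : V, Nat.card {p : V × V // ∃ g ∈ fixG H s, g a = p.1 ∧ g b = p.2} =
      Nat.card (orb H s a) * Nat.card (orb H (insert a s) b) := by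
    intro a b
    rw [← Nat.card_prod]
    have hsel : ∀ u : orb H s a, ∃ g, g ∈ fixG H s ∧ g a = u := fun u => u.2
    choose sel hsel1 hsel2 using hsel
    symm
    refine Nat.card_congr (Equiv.ofBijective
      (fun p => ⟨(p.1.1, sel p.1 p.2.1), ?_⟩) ⟨?_, ?_⟩)
    · obtain ⟨g, hg, hgb⟩ := p.2.2
      refine ⟨sel p.1 * g, Subgroup.mul_mem _ (hsel1 _) (fixG_anti (Set.subset_insert _ _) hg), ?_, ?_⟩
      · show sel p.1 (g a) = p.1.1
        rw [hg.2 a (Set.mem_insert _ _), hsel2]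
      · show sel p.1 (g b) = sel p.1 p.2.1
        rw [hgb]
    · rintro ⟨u, w⟩ ⟨u', w'⟩ h
      simp only [Subtype.mk.injEq, Prod.mk.injEq] at h
      obtain rfl : u = u' := Subtype.ext h.1
      exact Prod.ext rfl (Subtype.ext ((sel u).injective h.2))
    · rintro ⟨⟨c, d⟩, g, hg, hga, hgb⟩
      refine ⟨(⟨c, g, hg, hga⟩, ⟨(sel ⟨c, g, hg, hga⟩)⁻¹ d, (sel ⟨c, g, hg, hga⟩)⁻¹ * g, ?_, ?_⟩), ?_⟩
      · have hm := Subgroup.mul_mem _ (Subgroup.inv_mem _ (hsel1 ⟨c, g, hg, hga⟩)) hg
        refine ⟨hm.1, ?_⟩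
        rintro u (rfl | hu)
        · exact (congrArg ((sel ⟨c, g, hg, hga⟩)⁻¹ : V ≃ₗ[F] V)
            (hga.trans (hsel2 ⟨c, g, hg, hga⟩).symm)).trans (inv_apply_self _ _)
        · exact hm.2 u hu
      · show (sel ⟨c, g, hg, hga⟩)⁻¹ (g b) = _
        rw [hgb]
      · simp only [Subtype.mk.injEq, Prod.mk.injEq, true_and]
        exact apply_inv_self' _ _
  rw [← key x y, ← key y x]
  refine Nat.card_congr ((Equiv.prodComm V V).subtypeEquiv fun p => ?_)
  constructor
  · rintro ⟨g, hg, h1, h2⟩; exact ⟨g, hg, h2, h1⟩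
  · rintro ⟨g, hg, h1, h2⟩; exact ⟨g, hg, h2, h1⟩

/-- The unipotent map `x ↦ x + A x` for `A` with `A ∘ A = 0`. -/
def unip (A : V →ₗ[F] V) (h : ∀ x, A (A x) = 0) : V ≃ₗ[F] V :=
  LinearEquiv.ofLinearMap (LinearMap.id + A) (LinearMap.id - A)
    (LinearMap.ext fun x => by simp [h x]) (LinearMap.ext fun x => by simp [h x])

theorem unip_apply (A : V →ₗ[F] V) (h : ∀ x, A (A x) = 0) (x : V) : unip A h x = x + A x := rfl

end Orbits

section Elementary

variable (F : Type*) {K V : Type*} [Field F] [Field K] [Algebra F K] [AddCommGroup V] [Module F V]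
  [Module K V] [IsScalarTower F K V]

/-- `H` contains the `K`-linear maps of determinant of norm one. -/
def ContainsLin (K : Type*) [Field K] [Algebra F K] [Module K V] [IsScalarTower F K V]
    (H : Subgroup (V ≃ₗ[F] V)) : Prop :=
  ∀ g : V ≃ₗ[K] V, Algebra.norm F (LinearMap.det (g : V →ₗ[K] V)) = 1 → g.restrictScalars F ∈ H

/-- `h` is `K`-semilinear. -/
def IsSemi (K : Type*) [Field K] [Module K V] (h : V ≃ₗ[F] V) : Prop :=
  ∀ c : K, ∃ d : K, ∀ x, h (c • x) = d • h x

variable {F} {H : Subgroup (V ≃ₗ[F] V)} [FiniteDimensional K V] [FiniteDimensional F K]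

/-- `K`-transvections are in `H`. -/
theorem exists_transvection (hlin : ContainsLin F K H) (φ : Module.Dual K V) (v : V) (h : φ v = 0) :
    ∃ g ∈ H, ∀ x, g x = x + φ x • v := by
  refine ⟨(LinearEquiv.transvection h).restrictScalars F, hlin _ ?_, fun x => rfl⟩
  rw [LinearEquiv.transvection.coe_toLinearMap, LinearMap.transvection.det, h, add_zero, map_one]

/-- Homologies of norm-one ratio are in `H`. -/
theorem exists_dilation (hlin : ContainsLin F K H) (φ : Module.Dual K V) (v : V) (c : K)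
    (h : φ v = c - 1) (hc : Algebra.norm F c = 1) : ∃ g ∈ H, ∀ x, g x = x + φ x • v := by
  have hc0 : c ≠ 0 := by
    rintro rfl
    rw [Algebra.norm_zero] at hc
    exact zero_ne_one hc
  have hu : IsUnit (1 + φ v) := by rw [h, add_sub_cancel]; exact hc0.isUnit
  refine ⟨(LinearEquiv.dilatransvection hu).restrictScalars F, hlin _ ?_, fun x => ?_⟩
  · rw [LinearEquiv.dilatransvection.coe_toLinearMap, LinearMap.transvection.det, h, add_sub_cancel, hc]
  · exact LinearEquiv.dilatransvection.apply (h := hu)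

/-- A functional vanishing on a subspace with a prescribed value `1`. -/
theorem exists_dual_eq_one {W : Submodule K V} {x : V} (hx : x ∉ W) :
    ∃ φ : Module.Dual K V, φ x = 1 ∧ ∀ w ∈ W, φ w = 0 := by
  obtain ⟨f, hf, hW⟩ := Submodule.exists_le_ker_of_notMem hx
  refine ⟨(f x)⁻¹ • f, by simp [inv_mul_cancel₀ hf], fun w hw => ?_⟩
  simp [LinearMap.mem_ker.1 (hW hw)]

/-- `SL_K(V) ≤ H` is transitive on non-zero vectors, by `K`-linear elements. -/
theorem exists_lin_map (hlin : ContainsLin F K H) (hm : 2 ≤ finrank K V) {x y : V} (hx : x ≠ 0)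
    (hy : y ≠ 0) : ∃ k ∈ H, k x = y ∧ ∀ (c : K) (z : V), k (c • z) = c • k z := by
  have step : ∀ u w : V, u ≠ 0 → w ∉ Submodule.span K {u} →
      ∃ k ∈ H, k u = w ∧ ∀ (c : K) (z : V), k (c • z) = c • k z := by
    intro u w hu hw
    have hu' : u ∉ Submodule.span K {w - u} := by
      intro h
      obtain ⟨c, hc⟩ := Submodule.mem_span_singleton.1 h
      have hc0 : c ≠ 0 := by rintro rfl; exact hu (by simpa using hc.symm)
      apply hw
      refine Submodule.mem_span_singleton.2 ⟨c⁻¹ + 1, ?_⟩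
      rw [add_smul, one_smul]
      conv_lhs => arg 1; rw [← hc, inv_smul_smul₀ hc0]
      rw [sub_add_cancel]
    obtain ⟨φ, hφ, hφ0⟩ := exists_dual_eq_one hu'
    obtain ⟨g, hg, hgx⟩ := exists_transvection hlin φ (w - u) (hφ0 _ (Submodule.mem_span_singleton_self _))
    refine ⟨g, hg, by rw [hgx, hφ, one_smul]; abel, fun c z => ?_⟩
    rw [hgx, hgx, map_smul, smul_eq_mul, smul_add, mul_smul]
  by_cases hyx : y ∈ Submodule.span K {x}
  · obtain ⟨z, hz⟩ : ∃ z, z ∉ Submodule.span K {x} := by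
      by_contra hcon
      push Not at hcon
      have h1 := finrank_span_singleton (K := K) hx
      rw [show Submodule.span K {x} = ⊤ from eq_top_iff.2 fun z _ => hcon z, finrank_top] at h1
      omega
    have hzy : y ∉ Submodule.span K {z} := by
      intro h
      obtain ⟨c, hc⟩ := Submodule.mem_span_singleton.1 h
      have hc0 : c ≠ 0 := by rintro rfl; exact hy (by simpa using hc.symm)
      apply hz
      have : z = c⁻¹ • y := by rw [← hc, inv_smul_smul₀ hc0]
      rw [this]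
      exact Submodule.smul_mem _ _ hyx
    have hz0 : z ≠ 0 := fun h => hz (h ▸ Submodule.zero_mem _)
    obtain ⟨k1, h1, h1x, h1l⟩ := step x z hx hz
    obtain ⟨k2, h2, h2x, h2l⟩ := step z y hz0 hzy
    refine ⟨k2 * k1, H.mul_mem h2 h1, by show k2 (k1 x) = y; rw [h1x, h2x], fun c u => ?_⟩
    show k2 (k1 (c • u)) = c • k2 (k1 u)
    rw [h1l, h2l]
  · exact step x y hx hyx

end Elementary

section Counting

variable {F K V : Type*} [Field F] [Field K] [Algebra F K] [AddCommGroup V] [Module F V]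
  [Module K V] [IsScalarTower F K V] [Finite F] [Finite K] [Finite V]

theorem natCard_K : Nat.card K = Nat.card F ^ finrank F K := Module.natCard_eq_pow_finrank

theorem natCard_V : Nat.card V = Nat.card F ^ (finrank F K * finrank K V) := by
  rw [pow_mul, ← natCard_K, ← Module.natCard_eq_pow_finrank]

omit [Finite V] in
/-- At least `q^(r-1)` elements of norm one. -/
theorem le_card_norm_one (hr : 1 ≤ finrank F K) :
    Nat.card F ^ (finrank F K - 1) ≤ Nat.card {c : K // Algebra.norm F c = 1} := by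
  set N : Kˣ →* Fˣ := Units.map (Algebra.norm F) with hN
  have h1 : Nat.card Kˣ = Nat.card N.ker * Nat.card N.range := by
    rw [Subgroup.card_eq_card_quotient_mul_card_subgroup N.ker,
      Nat.card_congr (QuotientGroup.quotientKerEquivRange N).toEquiv, mul_comm]
  have h2 : Nat.card N.range ≤ Nat.card Fˣ := Nat.card_le_card_of_injective _ Subtype.val_injective
  have h3 : Nat.card N.ker = Nat.card {c : K // Algebra.norm F c = 1} := by
    refine Nat.card_congr
      { toFun := fun u => ⟨(u.1 : K), congrArg Units.val (MonoidHom.mem_ker.1 u.2)⟩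
        invFun := fun c => ⟨Units.mk0 c.1 (by
            intro h
            have := c.2
            rw [h, Algebra.norm_zero] at this
            exact zero_ne_one this), MonoidHom.mem_ker.2 (Units.ext c.2)⟩
        left_inv := fun u => Subtype.ext (Units.ext rfl)
        right_inv := fun c => rfl }
  rw [Nat.card_units, natCard_K (F := F) (K := K)] at h1
  rw [Nat.card_units] at h2
  obtain ⟨r, hr'⟩ := Nat.exists_eq_add_of_le hr
  rw [hr', add_tsub_cancel_left, ← h3]
  rw [hr', add_comm 1 r, pow_succ] at h1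
  have hq : 1 < Nat.card F := Finite.one_lt_card
  have h4 : Nat.card F ^ r * Nat.card F - 1 ≤ Nat.card N.ker * (Nat.card F - 1) := by
    rw [h1]; exact Nat.mul_le_mul_left _ h2
  by_contra hlt
  push Not at hlt
  have h5 : (Nat.card N.ker + 1) * (Nat.card F - 1) ≤ Nat.card F ^ r * (Nat.card F - 1) :=
    Nat.mul_le_mul_right _ hlt
  have h6 : 0 < Nat.card F ^ r := pow_pos (by omega) r
  obtain ⟨q', hq'⟩ := Nat.exists_eq_add_of_le (show 1 ≤ Nat.card F by omega)
  generalize Nat.card F ^ r = X at *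
  generalize Nat.card N.ker = k at *
  rw [hq'] at h4 h5 hq
  rw [add_tsub_cancel_left] at h4 h5
  have h7 : X * (1 + q') ≤ k * q' + 1 := by omega
  nlinarith

variable {H : Subgroup (V ≃ₗ[F] V)}

/-- Outside points have orbits of size at least `q^(n-r) · #norm-one`. -/
theorem le_card_orb' (hlin : ContainsLin F K H) {e x : V} {s : Set V}
    (hs : s ⊆ (Submodule.span K {e} : Set V)) (hx : x ∉ Submodule.span K {e}) :
    Nat.card F ^ (finrank F K * (finrank K V - 1)) * Nat.card {c : K // Algebra.norm F c = 1}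
      ≤ Nat.card (orb H s x) := by
  obtain ⟨φ, hφx, hφ⟩ := exists_dual_eq_one hx
  have hker : Nat.card (LinearMap.ker φ) = Nat.card F ^ (finrank F K * (finrank K V - 1)) := by
    rw [pow_mul, ← natCard_K, Module.natCard_eq_pow_finrank (K := K)]
    congr 1
    have h1 := φ.finrank_range_add_finrank_ker
    have hsurj : Function.Surjective φ := fun a => ⟨a • x, by simp [hφx]⟩
    rw [LinearMap.range_eq_top.2 hsurj, finrank_top, Module.finrank_self] at h1
    omega
  rw [← hker, ← Nat.card_prod]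
  refine Nat.card_le_card_of_injective
    (fun p => (⟨p.2.1 • x + (p.1 : V), ?_⟩ : orb H s x)) ?_
  · obtain ⟨g, hg, hgx⟩ := exists_dilation hlin φ ((p.2.1 - 1) • x + (p.1 : V)) p.2.1
      (by simp [hφx, LinearMap.mem_ker.1 p.1.2]) p.2.2
    refine ⟨g, ⟨hg, fun u hu => ?_⟩, ?_⟩
    · rw [hgx, hφ u (hs hu), zero_smul, add_zero]
    · rw [hgx, hφx, one_smul, sub_smul, one_smul]; abel
  · rintro ⟨w, c⟩ ⟨w', c'⟩ h
    simp only [Subtype.mk.injEq] at h
    have h1 := congrArg φ h
    simp [hφx, LinearMap.mem_ker.1 w.2, LinearMap.mem_ker.1 w'.2] at h1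
    obtain rfl : c = c' := Subtype.ext h1
    exact Prod.ext (Subtype.ext (add_left_cancel h)) rfl

/-- Outside points have orbits of size at least `q^(n-1)`. -/
theorem le_card_orb (hlin : ContainsLin F K H) (hr : 1 ≤ finrank F K) (hm : 2 ≤ finrank K V)
    {e x : V} {s : Set V} (hs : s ⊆ (Submodule.span K {e} : Set V))
    (hx : x ∉ Submodule.span K {e}) :
    Nat.card F ^ (finrank F K * finrank K V - 1) ≤ Nat.card (orb H s x) := by
  refine le_trans ?_ (le_card_orb' hlin hs hx)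
  refine le_trans (le_of_eq ?_) (Nat.mul_le_mul_left _ (le_card_norm_one hr))
  rw [← pow_add]
  congr 1
  obtain ⟨m, hm'⟩ := Nat.exists_eq_add_of_le hm
  obtain ⟨r, hr'⟩ := Nat.exists_eq_add_of_le hr
  rw [hm', hr', show 2 + m - 1 = m + 1 by omega, show 1 + r - 1 = r by omega]
  have : (1 + r) * (2 + m) = (1 + r) * (m + 1) + (1 + r) := by ring
  omega

/-- A point whose orbit stays on the line has a small orbit. -/
theorem card_orb_lt (hm : 2 ≤ finrank K V) {e x : V} {s : Set V} (hx : x ≠ 0)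
    (h : ∀ g ∈ fixG H s, g x ∈ Submodule.span K {e}) :
    Nat.card (orb H s x) < Nat.card F ^ finrank F K := by
  rw [← natCard_K]
  haveI : Nontrivial V := Module.nontrivial_of_finrank_pos (R := K) (by omega)
  have hsub : orb H s x ⊆ (fun c : K => c • e) '' {c | c ≠ 0} := by
    rintro _ ⟨g, hg, rfl⟩
    obtain ⟨c, hc⟩ := Submodule.mem_span_singleton.1 (h g hg)
    refine ⟨c, ?_, hc⟩
    rintro rfl
    rw [zero_smul] at hc
    exact hx (g.map_eq_zero_iff.1 hc.symm)
  rw [Nat.card_coe_set_eq]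
  calc (orb H s x).ncard ≤ ((fun c : K => c • e) '' {c | c ≠ 0}).ncard :=
        Set.ncard_le_ncard hsub (Set.toFinite _)
    _ ≤ ({c : K | c ≠ 0}).ncard := Set.ncard_image_le (Set.toFinite _)
    _ < (Set.univ : Set K).ncard := Set.ncard_lt_ncard
          ((Set.ssubset_univ_iff).2 fun h' => by simpa using Set.ext_iff.1 h' 0) (Set.toFinite _)
    _ = Nat.card K := Set.ncard_univ K

end Counting

end Cfsg.Agent.Lib.ExtFieldMax
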