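import Cfsg.Agent.Lib.ExtFieldMax.Stab
import Cfsg.Agent.Lib.Linear.Simple
import Cfsg.Agent.Lib.Linear.Order

/-!
The case `q = r = 2`: a transvection by a commutator (`m ≥ 3`) or by the index (`m = 2`).
Owner: helper95.
-/
set_option autoImplicit false

namespace Cfsg.Agent.Lib.ExtFieldMax

open Module

theorem orderOf_obstruction {α : Type*} [Fintype α] [DecidableEq α] (σ : Equiv.Perm α)
    (hc : Fintype.card α ≤ 8) (hx : ∃ x, σ x = x) (h15 : σ ^ 15 = 1) : σ ^ 3 = 1 ∨ σ ^ 5 = 1 := by
  classical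
  obtain ⟨x, hx⟩ := hx
  have hsupp : σ.support.card ≤ 7 := by
    have : σ.support ⊆ Finset.univ.erase x := fun y hy =>
      Finset.mem_erase.2 ⟨fun h => Equiv.Perm.mem_support.1 hy (by rw [h]; exact hx), Finset.mem_univ _⟩
    have := Finset.card_le_card this
    rw [Finset.card_erase_of_mem (Finset.mem_univ x), Finset.card_univ] at this
    omega
  have hdiv : ∀ n ∈ σ.cycleType, n = 3 ∨ n = 5 := by
    intro n hn
    have h1 : n ∣ 15 := (Multiset.dvd_lcm hn).trans (by
      rw [Equiv.Perm.lcm_cycleType]; exact orderOf_dvd_of_pow_eq_one h15)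
    have h2 : n ≤ 7 := (Multiset.le_sum_of_mem hn).trans (by rw [Equiv.Perm.sum_cycleType]; exact hsupp)
    have h3 := Equiv.Perm.two_le_of_mem_cycleType hn
    interval_cases n <;> omega
  by_cases h3 : (3 : ℕ) ∈ σ.cycleType
  · left
    refine orderOf_dvd_iff_pow_eq_one.1 ?_
    rw [← Equiv.Perm.lcm_cycleType, Multiset.lcm_dvd]
    intro n hn
    rcases hdiv n hn with rfl | rfl
    · exact dvd_rfl
    · exfalso
      obtain ⟨t, ht⟩ := Multiset.exists_cons_of_mem h3
      have h5 : (5 : ℕ) ∈ t := by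
        rw [ht, Multiset.mem_cons] at hn
        exact hn.resolve_left (by omega)
      have hs := Equiv.Perm.sum_cycleType σ
      rw [ht, Multiset.sum_cons] at hs
      have := Multiset.le_sum_of_mem h5
      omega
  · right
    refine orderOf_dvd_iff_pow_eq_one.1 ?_
    rw [← Equiv.Perm.lcm_cycleType, Multiset.lcm_dvd]
    intro n hn
    rcases hdiv n hn with rfl | rfl
    · exact absurd hn h3
    · exact dvd_rfl

/-- `GL₄(2)` is simple. -/
theorem isSimpleGroup_GL4 {F : Type*} [Field F] [Finite F] (hq : Nat.card F = 2) :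
    IsSimpleGroup (GL (Fin 4) F) := by
  haveI : Subsingleton Fˣ := by
    have h : Nat.card Fˣ = 1 := by rw [Nat.card_units, hq]
    exact (Nat.card_eq_one_iff_unique.1 h).1
  have hsurj : Function.Surjective (Matrix.SpecialLinearGroup.toGL :
      Matrix.SpecialLinearGroup (Fin 4) F →* GL (Fin 4) F) := by
    intro g
    refine ⟨⟨(g : Matrix (Fin 4) (Fin 4) F), ?_⟩, Units.ext rfl⟩
    exact congrArg Units.val (Subsingleton.elim (Matrix.GeneralLinearGroup.det g) 1)
  haveI : IsSimpleGroup (Matrix.ProjectiveSpecialLinearGroup (Fin 4) F) :=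
    Cfsg.Agent.Lib.Linear.isSimpleGroup_PSL (by norm_num) (by norm_num)
  have hc : Subgroup.center (Matrix.SpecialLinearGroup (Fin 4) F) = ⊥ :=
    Subgroup.eq_bot_of_card_eq _ (by rw [Cfsg.Agent.Lib.Linear.card_center_SL, hq]; rfl)
  let e : Matrix.ProjectiveSpecialLinearGroup (Fin 4) F ≃* Matrix.SpecialLinearGroup (Fin 4) F :=
    (QuotientGroup.quotientMulEquivOfEq hc).trans QuotientGroup.quotientBot
  haveI : Nontrivial (GL (Fin 4) F) := by
    have hinj : Function.Injective (Matrix.SpecialLinearGroup.toGL :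
        Matrix.SpecialLinearGroup (Fin 4) F →* GL (Fin 4) F) := fun a b h =>
      Subtype.ext (congrArg Units.val h)
    exact (hinj.comp e.injective).nontrivial
  exact IsSimpleGroup.isSimpleGroup_of_surjective
    ((Matrix.SpecialLinearGroup.toGL).comp e.toMonoidHom) (hsurj.comp e.surjective)

section

variable {F K V : Type*} [Field F] [Field K] [Algebra F K] [AddCommGroup V] [Module F V]
  [Module K V] [IsScalarTower F K V] [Finite F] [Finite K] [Finite V]

variable {H : Subgroup (V ≃ₗ[F] V)}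

omit [Field K] [Algebra F K] [Module K V] [IsScalarTower F K V] [Finite K] in
theorem card_fixG_eq (H : Subgroup (V ≃ₗ[F] V)) (s : Set V) (x : V) :
    Nat.card (fixG H s) = Nat.card (orb H s x) * Nat.card (fixG H (insert x s)) := by
  classical
  rw [← Nat.card_prod]
  have hsel : ∀ u : orb H s x, ∃ g, g ∈ fixG H s ∧ g x = u := fun u => u.2
  choose sel hsel1 hsel2 using hsel
  symm
  refine Nat.card_congr (Equiv.ofBijective
    (fun p => (⟨sel p.1 * p.2.1, Subgroup.mul_mem _ (hsel1 _) (fixG_anti (Set.subset_insert _ _) p.2.2)⟩ :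
      fixG H s)) ⟨?_, ?_⟩)
  · rintro ⟨u, a⟩ ⟨u', a'⟩ h
    have h' : sel u * a.1 = sel u' * a'.1 := congrArg Subtype.val h
    have h1 : sel u x = sel u' x := by
      have := LinearEquiv.congr_fun h' x
      change sel u (a.1 x) = sel u' (a'.1 x) at this
      rwa [a.2.2 x (Set.mem_insert _ _), a'.2.2 x (Set.mem_insert _ _)] at this
    rw [hsel2, hsel2] at h1
    obtain rfl : u = u' := Subtype.ext h1
    exact Prod.ext rfl (Subtype.ext (mul_left_cancel h'))
  · rintro ⟨g, hg⟩
    set u : orb H s x := ⟨g x, g, hg, rfl⟩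
    have hm := Subgroup.mul_mem _ (Subgroup.inv_mem _ (hsel1 u)) hg
    refine ⟨(u, ⟨(sel u)⁻¹ * g, hm.1, ?_⟩), Subtype.ext (mul_inv_cancel_left _ _)⟩
    rintro y (rfl | hy)
    · show (sel u)⁻¹ (g y) = y
      calc (sel u)⁻¹ (g y) = (sel u)⁻¹ (sel u y) := congrArg _ (hsel2 u).symm
        _ = y := inv_apply_self _ _
    · exact hm.2 y hy

/-- Points of `V` in terms of a basis `1, γ` of `K`. -/
theorem exists_coords (h2 : finrank F K = 2) {γ : K} (hγ : γ ∉ Submodule.span F {(1 : K)}) (c : K) :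
    ∃ α β : F, c = algebraMap F K α + algebraMap F K β * γ := by
  haveI : FiniteDimensional F K := Module.Finite.of_finite
  have h1 : Submodule.span F {(1 : K)} ⊔ Submodule.span F {γ} = ⊤ := by
    apply Submodule.eq_top_of_finrank_eq
    have hlt : Submodule.span F {(1 : K)} < Submodule.span F {(1 : K)} ⊔ Submodule.span F {γ} :=
      lt_of_le_of_ne le_sup_left fun h => hγ (by
        rw [h]; exact Submodule.mem_sup_right (Submodule.mem_span_singleton_self γ))
    have := Submodule.finrank_lt_finrank_of_lt hlt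
    rw [finrank_span_singleton (one_ne_zero (α := K))] at this
    have := Submodule.finrank_le (Submodule.span F {(1 : K)} ⊔ Submodule.span F {γ})
    omega
  obtain ⟨a, ha, b, hb, hab⟩ := Submodule.mem_sup.1 (h1.symm ▸ Submodule.mem_top (x := c))
  obtain ⟨α, rfl⟩ := Submodule.mem_span_singleton.1 ha
  obtain ⟨β, rfl⟩ := Submodule.mem_span_singleton.1 hb
  exact ⟨α, β, by rw [← hab, Algebra.smul_def, Algebra.smul_def, mul_one]⟩

/-- A transvection group when `q = r = 2` and `m ≥ 3`. -/
theorem exists_transvection_group_three (hlin : ContainsLin F K H) (hq : Nat.card F = 2)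
    (h2 : finrank F K = 2) (hm : 3 ≤ finrank K V) (hnot : ∃ h ∈ H, ¬ IsSemi F K h) :
    ∃ (f : Module.Dual F V) (v : V), f v = 0 ∧ f ≠ 0 ∧ v ≠ 0 ∧
      ∀ a : F, ∃ g ∈ H, ∀ x, g x = x + (a * f x) • v := by
  classical
  have hr : (finrank F K).Prime := h2 ▸ Nat.prime_two
  haveI : Nontrivial V := Module.nontrivial_of_finrank_pos (R := K) (by omega)
  obtain ⟨e, he⟩ := exists_ne (0 : V)
  obtain ⟨γ, hγ⟩ : ∃ γ : K, γ ∉ Submodule.span F {(1 : K)} := by
    by_contra h
    push Not at h
    have h1 := finrank_span_singleton (K := F) (one_ne_zero (α := K))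
    rw [show Submodule.span F {(1 : K)} = ⊤ from eq_top_iff.2 fun x _ => h x, finrank_top] at h1
    omega
  have hγe : γ • e ∈ Submodule.span K {e} := Submodule.smul_mem _ _ (Submodule.mem_span_singleton_self e)
  obtain ⟨h, hh, ht⟩ : ∃ h ∈ fixG H {e}, h (γ • e) ∉ Submodule.span K {e} := by
    by_contra hcon
    push Not at hcon
    obtain ⟨a, ha⟩ := Submodule.mem_span_singleton.1
      (stay_singleton hlin hr (by omega) hnot he hγe hcon)
    rw [← smul_F_eq (K := K)] at ha
    exact hγ (Submodule.mem_span_singleton.2 ⟨a, by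
      rw [Algebra.smul_def, mul_one]; exact smul_left_injective K he ha⟩)
  set t := h (γ • e)
  have hcomb : ∀ α β : F, h ((algebraMap F K α + algebraMap F K β * γ) • e) = α • e + β • t := by
    intro α β
    rw [add_smul, mul_smul, smul_F_eq, smul_F_eq, map_add, map_smul, map_smul, hh.2 e rfl]
  have hout : h⁻¹ (γ • e) ∉ Submodule.span K {e} := by
    intro hc
    obtain ⟨c, hc⟩ := Submodule.mem_span_singleton.1 hc
    obtain ⟨α, β, rfl⟩ := exists_coords h2 hγ c
    have h3 := congrArg h hc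
    rw [hcomb, apply_inv_self'] at h3
    by_cases hβ : β = 0
    · rw [hβ, zero_smul, add_zero, ← smul_F_eq (K := K)] at h3
      exact hγ (Submodule.mem_span_singleton.2 ⟨α, by
        rw [Algebra.smul_def, mul_one]; exact smul_left_injective K he h3⟩)
    · apply ht
      have h5 : t = β⁻¹ • (γ • e - α • e) := by
        rw [← h3, add_sub_cancel_left, inv_smul_smul₀ hβ]
      rw [h5, ← smul_F_eq (K := K) β⁻¹]
      refine Submodule.smul_mem _ _ (Submodule.sub_mem _ hγe ?_)
      rw [← smul_F_eq (K := K)]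
      exact Submodule.smul_mem _ _ (Submodule.mem_span_singleton_self e)
  obtain ⟨φ', hφ'w, hφ'⟩ := exists_dual_eq_one (K := K) hout
  obtain ⟨z, hz⟩ : ∃ z, z ∉ Submodule.span K {e, t} := by
    by_contra hcon
    push Not at hcon
    have h1 : finrank K V ≤ 2 := by
      rw [← finrank_top K V, ← show Submodule.span K {e, t} = ⊤ from eq_top_iff.2 fun z _ => hcon z]
      have := finrank_span_le_card (R := K) ({e, t} : Set V)
      refine this.trans ?_
      simp only [Set.toFinset_insert, Set.toFinset_singleton]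
      exact Finset.card_le_two
    omega
  obtain ⟨φ, hφz, hφ⟩ := exists_dual_eq_one (K := K) hz
  have hφe : φ e = 0 := hφ e (Submodule.subset_span (Set.mem_insert _ _))
  have hφt : φ t = 0 := hφ t (Submodule.subset_span (Set.mem_insert_of_mem _ rfl))
  have hφ'e : φ' e = 0 := hφ' e (Submodule.mem_span_singleton_self e)
  obtain ⟨a, ha, hax⟩ := exists_transvection hlin φ e hφe
  obtain ⟨b0, hb0, hb0x⟩ := exists_transvection hlin φ' e hφ'e
  set B : V → V := fun x => h (φ' (h⁻¹ x) • e) with hB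
  set b := h * b0 * h⁻¹ with hbdef
  have hbx : ∀ x, b x = x + B x := fun x => by
    show h (b0 (h⁻¹ x)) = _
    rw [hb0x, map_add, apply_inv_self']
  have hBadd : ∀ x y, B (x + y) = B x + B y := fun x y => by simp [hB, add_smul]
  -- `φ ∘ B = 0`
  have hφB : ∀ x, φ (B x) = 0 := by
    intro x
    obtain ⟨α, β, hc⟩ := exists_coords h2 hγ (φ' (h⁻¹ x))
    rw [hB]
    simp only
    rw [hc, hcomb, map_add, ← smul_F_eq (K := K) α e, ← smul_F_eq (K := K) β t, map_smul, map_smul,
      hφe, hφt, smul_zero, smul_zero, add_zero]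
  have hBe : B e = 0 := by
    show h (φ' (h⁻¹ e) • e) = 0
    rw [inv_apply_of_mem_fixG hh (Set.mem_singleton e), hφ'e, zero_smul, map_zero]
  have hBγ : B (γ • e) = e := by
    show h (φ' (h⁻¹ (γ • e)) • e) = e
    rw [hφ'w, one_smul, hh.2 e rfl]
  obtain ⟨lam, hlamγ, hlam⟩ := exists_dual_eq_one (K := F) hγ
  have hBsmul : ∀ (α : F) (x : V), B (α • x) = α • B x := by
    intro α x
    simp only [hB]
    rw [(h⁻¹ : V ≃ₗ[F] V).map_smul, ← smul_F_eq (K := K) α ((h⁻¹ : V ≃ₗ[F] V) x), φ'.map_smul,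
      smul_assoc, smul_F_eq, h.map_smul]
  have hBA : ∀ x, B (φ x • e) = lam (φ x) • e := by
    intro x
    obtain ⟨α, β, hc⟩ := exists_coords h2 hγ (φ x)
    have hl : lam (φ x) = β := by
      rw [hc, map_add, ← Algebra.smul_def, Algebra.algebraMap_eq_smul_one, map_smul, map_smul,
        hlam 1 (Submodule.mem_span_singleton_self _), hlamγ]
      simp
    rw [hl, hc, add_smul, mul_smul, smul_F_eq, smul_F_eq, hBadd, hBsmul, hBsmul, hBe, hBγ,
      smul_zero, zero_add]
  set ab := a * b
  set T := b * a * ab⁻¹ with hTdef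
  have hT : T ∈ H := by
    have hb : b ∈ H := H.mul_mem (H.mul_mem hh.1 hb0) (H.inv_mem hh.1)
    exact H.mul_mem (H.mul_mem hb ha) (H.inv_mem (H.mul_mem ha hb))
  have hTx : ∀ x, T (ab x) = ab x + lam (φ (ab x)) • e := by
    intro x
    show b (a (ab⁻¹ (ab x))) = _
    rw [inv_apply_self]
    have h1 : ab x = x + B x + φ x • e := by
      show a (b x) = _
      rw [hax, hbx, map_add, hφB, add_zero]
    rw [hbx, hax, hBadd, hBA, h1]
    simp only [map_add, map_smul, hφB, hφe, smul_eq_mul, mul_zero, add_zero]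
    abel
  refine ⟨lam.comp (φ.restrictScalars F), e, ?_, ?_, he, fun a' => ?_⟩
  · show lam (φ e) = 0
    rw [hφe, map_zero]
  · intro h0
    have h1 := LinearMap.congr_fun h0 (γ • z)
    rw [LinearMap.comp_apply, LinearMap.restrictScalars_apply, map_smul, hφz, smul_eq_mul, mul_one,
      hlamγ] at h1
    exact one_ne_zero h1
  · have ha' : a' = 0 ∨ a' = 1 := by
      classical
      haveI := Fintype.ofFinite F
      by_contra hne
      push Not at hne
      have h3 : ({0, 1, a'} : Finset F).card ≤ 2 := by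
        rw [← hq, Nat.card_eq_fintype_card]; exact Finset.card_le_univ _
      rw [Finset.card_eq_three.2 ⟨0, 1, a', zero_ne_one, hne.1.symm, hne.2.symm, rfl⟩] at h3
      omega
    rcases ha' with rfl | rfl
    · exact ⟨1, H.one_mem, fun x => by simp⟩
    · refine ⟨T, hT, fun y => ?_⟩
      obtain ⟨x, rfl⟩ := ab.surjective y
      rw [hTx, one_mul]
      rfl

/-- `m = 2`, `q = r = 2`: everything. -/
theorem eq_top_four (hlin : ContainsLin F K H) (hq : Nat.card F = 2) (h2 : finrank F K = 2)
    (hm : finrank K V = 2) (hnot : ∃ h ∈ H, ¬ IsSemi F K h) : H = ⊤ := by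
  classical
  by_contra hne
  haveI : FiniteDimensional F V := Module.Finite.of_finite
  haveI : FiniteDimensional F K := Module.Finite.of_finite
  have hr : (finrank F K).Prime := h2 ▸ Nat.prime_two
  have hn : finrank F V = 4 := by rw [← Module.finrank_mul_finrank F K V, h2, hm]
  have hV : Nat.card V = 16 := by rw [Module.natCard_eq_pow_finrank (K := F), hq, hn]; rfl
  haveI : Nontrivial V := Module.nontrivial_of_finrank_pos (R := K) (by omega)
  obtain ⟨e, he⟩ := exists_ne (0 : V)
  haveI : Finite (V ≃ₗ[F] V) :=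
    Finite.of_injective (fun g : V ≃ₗ[F] V => (g : V → V)) DFunLike.coe_injective
  have hN1 : 2 < Nat.card {c : K // Algebra.norm F c = 1} + 0 ∧
      ∀ c : K, c ≠ 0 → Algebra.norm F c = 1 := by
    have hall : ∀ c : K, c ≠ 0 → Algebra.norm F c = 1 := by
      intro c hc
      haveI : Subsingleton Fˣ := by
        have h : Nat.card Fˣ = 1 := by rw [Nat.card_units, hq]
        exact (Nat.card_eq_one_iff_unique.1 h).1
      exact congrArg Units.val (Subsingleton.elim
        (Units.mk0 _ (Algebra.norm_ne_zero_iff.2 hc)) (1 : Fˣ))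
    refine ⟨?_, hall⟩
    have h3 : Nat.card Kˣ = 3 := by rw [Nat.card_units, natCard_K (F := F) (K := K), hq, h2]; rfl
    rw [add_zero]
    calc 2 < Nat.card Kˣ := by omega
      _ ≤ _ := Nat.card_le_card_of_injective (fun u => ⟨(u : K), hall _ u.ne_zero⟩)
          fun u v h => Units.ext (congrArg Subtype.val h)
  obtain ⟨hN3, hall⟩ := hN1
  have hbig : ∀ (s : Set V) (x : V), s ⊆ (Submodule.span K {e} : Set V) → x ∉ Submodule.span K {e} →
      12 ≤ Nat.card (orb H s x) := by
    intro s x hs hx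
    refine le_trans ?_ (le_card_orb' hlin hs hx)
    rw [hq, h2, hm]
    norm_num
    omega
  -- the sizes
  have h15 : 15 ≤ Nat.card (orb H ∅ e) := by
    have : ({x : V | x ≠ 0}).ncard = 15 := by
      have h1 := Set.ncard_add_ncard_compl ({0} : Set V)
      rw [Set.ncard_singleton, hV] at h1
      rw [show {x : V | x ≠ 0} = ({0} : Set V)ᶜ from rfl]
      omega
    rw [← this, Nat.card_coe_set_eq]
    refine Set.ncard_le_ncard ?_ (Set.toFinite _)
    intro x hx
    obtain ⟨k, hk, hke, -⟩ := exists_lin_map hlin (by omega) he hx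
    exact ⟨k, ⟨hk, by simp⟩, hke⟩
  obtain ⟨γ, hγ⟩ : ∃ γ : K, γ ∉ Submodule.span F {(1 : K)} := by
    by_contra h
    push Not at h
    have h1 := finrank_span_singleton (K := F) (one_ne_zero (α := K))
    rw [show Submodule.span F {(1 : K)} = ⊤ from eq_top_iff.2 fun x _ => h x, finrank_top] at h1
    omega
  have hSe : ({e} : Set V) ⊆ (Submodule.span K {e} : Set V) :=
    Set.singleton_subset_iff.2 (Submodule.mem_span_singleton_self e)
  have hγe' : γ • e ∉ Submodule.span F {e} := by
    intro hc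
    obtain ⟨a, ha⟩ := Submodule.mem_span_singleton.1 hc
    rw [← smul_F_eq (K := K)] at ha
    exact hγ (Submodule.mem_span_singleton.2 ⟨a, by
      rw [Algebra.smul_def, mul_one]; exact smul_left_injective K he ha⟩)
  have hFe : ((Submodule.span F {e} : Submodule F V) : Set V).ncard = 2 := by
    rw [← Nat.card_coe_set_eq]
    show Nat.card (Submodule.span F {e}) = 2
    rw [Module.natCard_eq_pow_finrank (K := F), finrank_span_singleton he, hq, pow_one]
  have hsubset : ∀ y, y ∉ Submodule.span F {e} →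
      orb H {e} y ⊆ ((Submodule.span F {e} : Submodule F V) : Set V)ᶜ := by
    rintro y hy _ ⟨g, hg, rfl⟩ hgy
    obtain ⟨a, ha⟩ := Submodule.mem_span_singleton.1 hgy
    refine hy (Submodule.mem_span_singleton.2 ⟨a, g.injective ?_⟩)
    rw [map_smul, hg.2 e rfl]; exact ha
  have hreach : ∀ y, y ∉ Submodule.span F {e} → 12 ≤ Nat.card (orb H {e} y) := by
    intro y hy
    by_cases hyS : y ∈ Submodule.span K {e}
    · obtain ⟨g, hg, hout⟩ : ∃ g ∈ fixG H {e}, g y ∉ Submodule.span K {e} := by
        by_contra hcon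
        push Not at hcon
        exact hy (stay_singleton hlin hr (by omega) hnot he hyS hcon)
      rw [← orb_eq_of_mem ⟨g, hg, rfl⟩]
      exact hbig _ _ hSe hout
    · exact hbig _ _ hSe hyS
  have hcompl : ((Submodule.span F {e} : Submodule F V) : Set V)ᶜ.ncard = 14 := by
    have := Set.ncard_add_ncard_compl ((Submodule.span F {e} : Submodule F V) : Set V)
    omega
  have h14 : 14 ≤ Nat.card (orb H {e} (γ • e)) := by
    rw [← hcompl, Nat.card_coe_set_eq]
    refine Set.ncard_le_ncard (fun y hy => ?_) (Set.toFinite _)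
    by_contra hne'
    have hdis : Disjoint (orb H {e} y) (orb H {e} (γ • e)) := by
      rw [Set.disjoint_left]
      intro z hz hz'
      exact hne' (by rw [← orb_eq_of_mem hz', orb_eq_of_mem hz]; exact mem_orb_self y)
    have h1 := Set.ncard_le_ncard (Set.union_subset (hsubset y hy) (hsubset _ hγe')) (Set.toFinite _)
    rw [Set.ncard_union_eq hdis (Set.toFinite _) (Set.toFinite _), hcompl,
      ← Nat.card_coe_set_eq, ← Nat.card_coe_set_eq] at h1
    have := hreach y hy
    have := hreach _ hγe'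
    omega
  obtain ⟨z, hz⟩ : ∃ z, z ∉ Submodule.span K {e} := by
    by_contra hcon
    push Not at hcon
    have h1 := finrank_span_singleton (K := K) he
    rw [show Submodule.span K {e} = ⊤ from eq_top_iff.2 fun z _ => hcon z, finrank_top] at h1
    omega
  have h12 : 12 ≤ Nat.card (fixG H (insert (γ • e) {e})) := by
    rw [card_fixG_eq H _ z]
    refine le_trans ?_ (Nat.le_mul_of_pos_right _ Nat.card_pos)
    exact hbig _ _ (Set.insert_subset
      (Submodule.smul_mem _ _ (Submodule.mem_span_singleton_self e)) hSe) hz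
  have hcardH : 2520 ≤ Nat.card H := by
    have h0 : Nat.card H = Nat.card (fixG H (∅ : Set V)) :=
      Nat.card_congr (Equiv.subtypeEquivRight fun g =>
        ⟨fun h => mem_fixG.2 ⟨h, by simp⟩, fun h => (mem_fixG.1 h).1⟩)
    rw [h0, card_fixG_eq H ∅ e, insert_empty_eq, card_fixG_eq H {e} (γ • e)]
    calc 2520 = 15 * (14 * 12) := rfl
      _ ≤ _ := Nat.mul_le_mul h15 (Nat.mul_le_mul h14 h12)
  -- the ambient group
  let bV : Module.Basis (Fin 4) F V := Module.finBasisOfFinrankEq F V hn
  let E : (V ≃ₗ[F] V) ≃* GL (Fin 4) F :=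
    (LinearMap.GeneralLinearGroup.generalLinearEquiv F V).symm.trans
      (Units.mapEquiv (LinearMap.toMatrixAlgEquiv bV).toMulEquiv)
  haveI : Finite (GL (Fin 4) F) := inferInstance
  have hcardG : Nat.card (V ≃ₗ[F] V) = 20160 := by
    haveI := Fintype.ofFinite F
    rw [Nat.card_congr E.toEquiv, Matrix.card_GL_field]
    rw [← Nat.card_eq_fintype_card, hq]
    simp [Fin.prod_univ_four]
  haveI : Finite (V ≃ₗ[F] V) := Finite.of_equiv _ E.symm.toEquiv
  haveI := isSimpleGroup_GL4 (F := F) hq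
  haveI : IsSimpleGroup (V ≃ₗ[F] V) := E.isSimpleGroup
  have hidx : H.index ≤ 8 := by
    have h1 := H.index_mul_card
    rw [hcardG] at h1
    nlinarith
  have hker : (MulAction.toPermHom (V ≃ₗ[F] V) ((V ≃ₗ[F] V) ⧸ H)).ker = ⊥ := by
    refine (Subgroup.Normal.eq_bot_or_eq_top inferInstance).resolve_right fun h => hne ?_
    rw [← Subgroup.normalCore_eq_ker] at h
    exact top_le_iff.1 (h ▸ H.normalCore_le)
  -- an element of order fifteen
  haveI : FiniteDimensional K V := Module.Finite.of_finite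
  let bK : Module.Basis (Fin 2) K V := Module.finBasisOfFinrankEq K V hm
  have hK4 : Nat.card K = 4 := by rw [natCard_K (F := F) (K := K), hq, h2]; rfl
  haveI := Fintype.ofFinite K
  have hchar : CharP K 2 := by
    haveI := Fintype.ofFinite F
    obtain ⟨p, hp⟩ := CharP.exists F
    obtain ⟨k, hpr, hF⟩ := FiniteField.card F p
    rw [← Nat.card_eq_fintype_card, hq] at hF
    have hp2 : p = 2 := by
      have : p ∣ 2 := hF ▸ dvd_pow_self p k.ne_zero
      exact (Nat.prime_dvd_prime_iff_eq hpr Nat.prime_two).1 this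
    subst hp2
    exact charP_of_injective_algebraMap (algebraMap F K).injective 2
  have hγ2 : γ ^ 2 = γ + 1 := by
    have h4 : γ ^ 4 = γ := by
      have := FiniteField.pow_card γ
      rwa [← Nat.card_eq_fintype_card, hK4] at this
    have hγ0 : γ ≠ 0 := fun h => hγ (h ▸ Submodule.zero_mem _)
    have hγ1 : γ ≠ 1 := fun h => hγ (h ▸ Submodule.mem_span_singleton_self _)
    have h3 : γ * (γ - 1) * (γ ^ 2 + γ + 1) = 0 := by linear_combination h4
    rcases mul_eq_zero.1 h3 with h5 | h5
    · rcases mul_eq_zero.1 h5 with h6 | h6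
      · exact absurd h6 hγ0
      · exact absurd (sub_eq_zero.1 h6) hγ1
    · have h2' : (2 : K) = 0 := CharP.cast_eq_zero K 2
      linear_combination h5 - (γ + 1) * h2'
  let M : Matrix (Fin 2) (Fin 2) K := !![0, 1; γ, 1]
  let L : Module.End K V := (LinearMap.toMatrixAlgEquiv bK).symm M
  have htwo : (2 : K) = 0 := CharP.cast_eq_zero K 2
  have hM3 : M ^ 3 = !![γ, γ + 1; 1, 1] := by
    ext i j
    fin_cases i <;> fin_cases j <;> simp [M, pow_succ, Matrix.mul_apply, Fin.sum_univ_two] <;>
      grind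
  have hM5 : M ^ 5 = !![γ, 0; 0, γ] := by
    rw [show (5 : ℕ) = 3 + 2 from rfl, pow_add, hM3]
    ext i j
    fin_cases i <;> fin_cases j <;> simp [M, pow_succ, Matrix.mul_apply, Fin.sum_univ_two] <;>
      grind
  have hM15 : M ^ 15 = 1 := by
    rw [show (15 : ℕ) = 5 * 3 from rfl, pow_mul, hM5]
    ext i j
    fin_cases i <;> fin_cases j <;> simp [pow_succ, Matrix.mul_apply, Fin.sum_univ_two] <;>
      grind
  have hL15 : L ^ 15 = 1 := by rw [← map_pow, hM15, map_one]
  let g : V ≃ₗ[K] V := LinearEquiv.ofLinearMap L (L ^ 14)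
    (by rw [← Module.End.mul_eq_comp, ← pow_succ', hL15]; rfl)
    (by rw [← Module.End.mul_eq_comp, ← pow_succ, hL15]; rfl)
  have hgH : g.restrictScalars F ∈ H := by
    refine hlin g (hall _ ?_)
    exact (LinearEquiv.isUnit_det' g).ne_zero
  set G := g.restrictScalars F
  have hpow : ∀ (k : ℕ) (x : V), (G ^ k) x = (L ^ k) x := by
    intro k
    induction k with
    | zero => intro x; rfl
    | succ k ih => intro x; rw [pow_succ', pow_succ']; show G ((G ^ k) x) = L ((L ^ k) x); rw [ih]; rfl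
  have hnpow : ∀ k : ℕ, M ^ k ≠ 1 → G ^ k ≠ 1 := by
    intro k hk hG
    apply hk
    apply (LinearMap.toMatrixAlgEquiv bK).symm.injective
    rw [map_pow, map_one]
    exact LinearMap.ext fun x => by rw [← hpow k x, hG]; rfl
  haveI := Fintype.ofFinite ((V ≃ₗ[F] V) ⧸ H)
  set σ := MulAction.toPermHom (V ≃ₗ[F] V) ((V ≃ₗ[F] V) ⧸ H) G with hσ
  have hσ15 : σ ^ 15 = 1 := by
    rw [hσ, ← map_pow]
    rw [show G ^ 15 = 1 from LinearEquiv.ext fun x => by rw [hpow, hL15]; rfl, map_one]
  have hinj : Function.Injective (MulAction.toPermHom (V ≃ₗ[F] V) ((V ≃ₗ[F] V) ⧸ H)) :=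
    (MonoidHom.ker_eq_bot_iff _).1 hker
  rcases orderOf_obstruction σ (by rw [← Nat.card_eq_fintype_card, ← Subgroup.index_eq_card]; exact hidx)
    ⟨((1 : V ≃ₗ[F] V) : (V ≃ₗ[F] V) ⧸ H), by
      show G • ((1 : V ≃ₗ[F] V) : (V ≃ₗ[F] V) ⧸ H) = _
      rw [MulAction.Quotient.smul_coe, smul_eq_mul, mul_one, QuotientGroup.eq]
      simpa using hgH⟩ hσ15 with h | h
  · rw [hσ, ← map_pow, ← map_one (MulAction.toPermHom (V ≃ₗ[F] V) ((V ≃ₗ[F] V) ⧸ H))] at h
    refine hnpow 3 ?_ (hinj h)
    rw [hM3]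
    intro h1
    have := congrFun (congrFun h1 1) 0
    simp at this
  · rw [hσ, ← map_pow, ← map_one (MulAction.toPermHom (V ≃ₗ[F] V) ((V ≃ₗ[F] V) ⧸ H))] at h
    refine hnpow 5 ?_ (hinj h)
    rw [hM5]
    intro h1
    have := congrFun (congrFun h1 0) 0
    simp at this
    exact hγ (this ▸ Submodule.mem_span_singleton_self _)

end

end Cfsg.Agent.Lib.ExtFieldMax
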