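import Cfsg.Agent.Lib.ExtFieldMax.Stab

/-!
One transvection group gives all transvections.
Owner: helper95.
-/
set_option autoImplicit false

namespace Cfsg.Agent.Lib.ExtFieldMax

open Module

variable {F K V : Type*} [Field F] [Field K] [Algebra F K] [AddCommGroup V] [Module F V]
  [Module K V] [IsScalarTower F K V] [Finite F] [Finite K] [Finite V]

variable {H : Subgroup (V ≃ₗ[F] V)}

theorem transvection_mem_of_group (hlin : ContainsLin F K H) (hr : (finrank F K).Prime)
    (hm : 2 ≤ finrank K V) (hnot : ∃ h ∈ H, ¬ IsSemi F K h)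
    {f0 : Module.Dual F V} {v0 : V} (hf0 : f0 ≠ 0) (hfv0 : f0 v0 = 0) (hv0 : v0 ≠ 0)
    (hgrp : ∀ a : F, ∃ g ∈ H, ∀ x, g x = x + (a * f0 x) • v0)
    (f : Module.Dual F V) (v : V) (hfv : f v = 0) :
    LinearEquiv.transvection hfv ∈ H := by
  haveI : FiniteDimensional F V := Module.Finite.of_finite
  by_cases hv : v = 0
  · subst hv
    have : LinearEquiv.transvection hfv = 1 := LinearEquiv.ext fun x => by
      rw [LinearEquiv.transvection.apply, smul_zero, add_zero]; rfl
    rw [this]; exact H.one_mem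
  let P : Submodule F (Module.Dual F V) :=
    { carrier := {f | f v = 0 ∧ ∀ a : F, ∃ g ∈ H, ∀ x, g x = x + (a * f x) • v}
      add_mem' := by
        intro f f' hf hf'
        refine ⟨by simp [hf.1, hf'.1], fun a => ?_⟩
        obtain ⟨g, hg, hgx⟩ := hf.2 a
        obtain ⟨g', hg', hgx'⟩ := hf'.2 a
        refine ⟨g * g', H.mul_mem hg hg', fun x => ?_⟩
        show g (g' x) = _
        rw [hgx, hgx', map_add, map_smul, hf.1, smul_zero, add_zero, LinearMap.add_apply, mul_add,
          add_smul]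
        abel
      zero_mem' := ⟨rfl, fun a => ⟨1, H.one_mem, fun x => by simp⟩⟩
      smul_mem' := by
        intro b f hf
        refine ⟨by simp [hf.1], fun a => ?_⟩
        obtain ⟨g, hg, hgx⟩ := hf.2 (a * b)
        exact ⟨g, hg, fun x => by rw [hgx]; simp [mul_assoc]⟩ }
  suffices hP : f ∈ P by
    obtain ⟨g, hg, hgx⟩ := hP.2 1
    have : LinearEquiv.transvection hfv = g := LinearEquiv.ext fun x => by
      rw [LinearEquiv.transvection.apply, hgx, one_mul]
    rwa [this]
  -- `P` is non-zero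
  have hP0 : P ≠ ⊥ := by
    obtain ⟨k, hk, hkv, -⟩ := exists_lin_map hlin hm hv0 hv
    have hmem : f0.comp (k⁻¹ : V ≃ₗ[F] V).toLinearMap ∈ P := by
      refine ⟨?_, fun a => ?_⟩
      · show f0 (k⁻¹ v) = 0
        rw [← hkv, inv_apply_self, hfv0]
      · obtain ⟨g, hg, hgx⟩ := hgrp a
        refine ⟨k * g * k⁻¹, H.mul_mem (H.mul_mem hk hg) (H.inv_mem hk), fun x => ?_⟩
        show k (g (k⁻¹ x)) = _
        rw [hgx, map_add, map_smul, apply_inv_self', hkv]
        rfl
    intro h
    rw [h, Submodule.mem_bot] at hmem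
    apply hf0
    ext x
    have := LinearMap.congr_fun hmem (k x)
    simpa [inv_apply_self] using this
  set W := P.dualCoannihilator with hW
  have hWmem : ∀ x, x ∈ W ↔ ∀ φ ∈ P, φ x = 0 := fun x => Submodule.mem_dualCoannihilator x
  have hvW : v ∈ W := (hWmem v).2 fun φ hφ => hφ.1
  have hWtop : W ≠ ⊤ := by
    intro h
    apply hP0
    rw [eq_bot_iff]
    intro φ hφ
    rw [Submodule.mem_bot]
    ext x
    exact (hWmem x).1 (h ▸ Submodule.mem_top) φ hφ
  have hinv : ∀ g ∈ fixG H {v}, ∀ x ∈ W, g x ∈ W := by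
    intro g hg x hx
    rw [hWmem] at hx ⊢
    intro φ hφ
    refine hx (φ.comp g.toLinearMap) ⟨?_, fun a => ?_⟩
    · show φ (g v) = 0
      rw [hg.2 v rfl, hφ.1]
    · obtain ⟨t, ht, htx⟩ := hφ.2 a
      refine ⟨g⁻¹ * t * g, H.mul_mem (H.mul_mem (H.inv_mem hg.1) ht) hg.1, fun x => ?_⟩
      show g⁻¹ (t (g x)) = _
      rw [htx, map_add, map_smul, inv_apply_self, inv_apply_of_mem_fixG hg (Set.mem_singleton v)]
      rfl
  have hWeq : W ≤ Submodule.span F {v} := by
    intro x hx
    by_contra hxv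
    obtain ⟨y, hyW, hy⟩ : ∃ y ∈ W, y ∉ Submodule.span K {v} := by
      by_cases hxK : x ∈ Submodule.span K {v}
      · by_contra hcon
        push Not at hcon
        exact hxv (stay_singleton hlin hr hm hnot hv hxK fun g hg => hcon _ (hinv g hg x hx))
      · exact ⟨x, hx, hxK⟩
    have h1 := le_card_orb (s := ({v} : Set V)) hlin hr.one_le hm
      (Set.singleton_subset_iff.2 (Submodule.mem_span_singleton_self v)) hy
    have hsub : orb H {v} y ⊂ (W : Set V) := by
      refine (Set.ssubset_iff_of_subset ?_).2 ⟨0, W.zero_mem, fun h0 => ?_⟩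
      · rintro _ ⟨g, hg, rfl⟩; exact hinv g hg y hyW
      · exact ne_zero_of_mem_orb (fun hy0 => hy (hy0.symm ▸ Submodule.zero_mem _) : y ≠ 0) h0 rfl
    have h2 := Set.ncard_lt_ncard hsub (Set.toFinite _)
    rw [← Nat.card_coe_set_eq, ← Nat.card_coe_set_eq] at h2
    have h3 : Nat.card W ≤ Nat.card F ^ (finrank F K * finrank K V - 1) := by
      rw [Module.natCard_eq_pow_finrank (K := F)]
      refine Nat.pow_le_pow_right Nat.card_pos ?_
      have := Submodule.finrank_lt hWtop
      rw [← Module.finrank_mul_finrank F K V] at this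
      omega
    exact absurd (lt_of_le_of_lt h1 (lt_of_lt_of_le h2 h3)) (lt_irrefl _)
  rw [← Subspace.dualCoannihilator_dualAnnihilator_eq (W := P), Submodule.mem_dualAnnihilator]
  intro x hx
  obtain ⟨c, rfl⟩ := Submodule.mem_span_singleton.1 (hWeq hx)
  rw [map_smul, hfv, smul_zero]

end Cfsg.Agent.Lib.ExtFieldMax
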