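import Cfsg.Agent.Lib.ExtFieldMax.Rank
import Cfsg.Agent.Lib.ExtFieldMax.Spread
import Cfsg.Agent.Lib.ExtFieldMax.Small

/-!
An overgroup of the norm-one `K`-linear maps outside `ΓL(K)` contains every `F`-transvection.
Owner: helper95.
-/
set_option autoImplicit false

namespace Cfsg.Agent.Lib.ExtFieldMax

open Module

variable {F K V : Type*} [Field F] [Field K] [Algebra F K] [AddCommGroup V] [Module F V]
  [Module K V] [IsScalarTower F K V] [Finite F] [Finite K] [Finite V]

variable {H : Subgroup (V ≃ₗ[F] V)}

theorem transvection_mem (hlin : ContainsLin F K H) (hr : (finrank F K).Prime) (hm : 2 ≤ finrank K V)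
    (hnot : ∃ h ∈ H, ¬ IsSemi F K h) (f : Module.Dual F V) (v : V) (hfv : f v = 0) :
    LinearEquiv.transvection hfv ∈ H := by
  have hgen : (∃ (f : Module.Dual F V) (v : V), f v = 0 ∧ f ≠ 0 ∧ v ≠ 0 ∧
      ∀ a : F, ∃ g ∈ H, ∀ x, g x = x + (a * f x) • v) → LinearEquiv.transvection hfv ∈ H := by
    rintro ⟨f0, v0, h0, hf0, hv0, hgrp⟩
    exact transvection_mem_of_group hlin hr hm hnot hf0 h0 hv0 hgrp f v hfv
  by_cases hexc : finrank F K < Nat.card F ^ (finrank F K - 1)
  · exact hgen (exists_transvection_group hlin hr hm hnot hexc)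
  obtain ⟨hq, h2⟩ : Nat.card F = 2 ∧ finrank F K = 2 := by
    have hq : 2 ≤ Nat.card F := Finite.one_lt_card
    have hr2 : finrank F K = 2 := by
      by_contra hne
      apply hexc
      have h3 : 3 ≤ finrank F K := by
        have := hr.two_le
        omega
      calc finrank F K < 2 ^ (finrank F K - 1) := by
            obtain ⟨k, hk⟩ : ∃ k, finrank F K = k + 3 := ⟨finrank F K - 3, by omega⟩
            rw [hk]
            clear hk
            induction k with
            | zero => decide
            | succ k ih =>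
              rw [show k + 1 + 3 - 1 = (k + 3 - 1) + 1 by omega, pow_succ]
              omega
        _ ≤ _ := Nat.pow_le_pow_left hq _
    refine ⟨?_, hr2⟩
    rw [hr2] at hexc
    simp at hexc
    omega
  rcases Nat.lt_or_ge (finrank K V) 3 with hm3 | hm3
  · rw [eq_top_four hlin hq h2 (by omega) hnot]
    exact Subgroup.mem_top _
  · exact hgen (exists_transvection_group_three hlin hq h2 hm3 hnot)

end Cfsg.Agent.Lib.ExtFieldMax
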