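import Cfsg.Agent.Lib.ExtFieldMax.Main
import Cfsg.Agent.Lib.FieldSub.Basic
import Cfsg.Agent.Lib.AutPSL.Gen

/-!
The extension-field normaliser inside `GL (Fin n) F`: overgroups and determinants.
Owner: helper95.
-/
set_option autoImplicit false

namespace Cfsg.Agent.Lib.ExtFieldMax

open Module Matrix

variable {F : Type*} [Field F] [Fintype F] {n r : ℕ}

local notation "Mat" => Matrix (Fin n) (Fin n) F
local notation "Vec" => (Fin n → F)

/-- `GL (Fin n) F` as linear automorphisms. -/
noncomputable def toEquivHom : GL (Fin n) F ≃* (Vec ≃ₗ[F] Vec) :=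
  Matrix.GeneralLinearGroup.toLin.trans (LinearMap.GeneralLinearGroup.generalLinearEquiv F Vec)

omit [Fintype F] in
theorem toEquivHom_apply (A : GL (Fin n) F) (x : Vec) : toEquivHom A x = (A : Mat) *ᵥ x := rfl

/-- The module structure over a subalgebra of matrices. -/
@[reducible] noncomputable def vecModule (K : Subalgebra F Mat) : Module K Vec :=
  Module.compHom _ (((Matrix.toLinAlgEquiv' : Mat ≃ₐ[F] (Vec →ₗ[F] Vec)).toAlgHom.comp
      K.val).toRingHom)

omit [Fintype F] in
theorem mat_ext {A B : Mat} (h : ∀ x, A *ᵥ x = B *ᵥ x) : A = B :=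
  Matrix.toLin'.injective (LinearMap.ext h)

section


/-- An overgroup of `N ⊓ SL` is inside the normaliser `N` or contains `SL`. -/
theorem le_or_specialLinear_le (hr : r.Prime) (hrn : r ∣ n) (hlt : r < n) {K : Subalgebra F (Matrix (Fin n) (Fin n) F)}
    (hK : Cfsg.Geo.IsFieldSubalgebra r K) (M : Subgroup (GL (Fin n) F))
    (hM : Cfsg.Geo.subalgebraNormalizer K ⊓ Cfsg.Geo.specialLinear (Fin n) F ≤ M) :
    M ≤ Cfsg.Geo.subalgebraNormalizer K ∨ Cfsg.Geo.specialLinear (Fin n) F ≤ M := by
  classical
  have hn : 0 < n := by omega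
  letI : Field K := FieldSub.fieldOf (F := F) (n := n) (r := r) hn hK
  letI hmod : Module K Vec := vecModule K
  have hsmul : ∀ (k : K) (x : Vec), k • x = (k : Mat) *ᵥ x := fun k x => rfl
  haveI : @IsScalarTower F K Vec Algebra.toSMul hmod.toSMul inferInstance :=
    ⟨fun a k x => smul_mulVec a (k : Mat) x⟩
  haveI : Finite K := Finite.of_injective (fun x : K => (x : Mat)) Subtype.val_injective
  haveI : FiniteDimensional K Vec := Module.Finite.of_finite
  have hfr : finrank F K = r := hK.finrank_eq
  have hm : 2 ≤ finrank K Vec := by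
    have h := Module.finrank_mul_finrank F K Vec
    rw [hfr, Module.finrank_fin_fun] at h
    rcases Nat.lt_or_ge (finrank K Vec) 2 with h2 | h2
    · interval_cases hf : finrank K Vec <;> omega
    · exact h2
  set H : Subgroup (Vec ≃ₗ[F] Vec) := M.map (toEquivHom (F := F) (n := n)).toMonoidHom with hH
  have hmemH : ∀ A, toEquivHom A ∈ H ↔ A ∈ M := fun A =>
    ⟨fun h => by
      obtain ⟨B, hB, hBA⟩ := Subgroup.mem_map.1 h
      rw [← (toEquivHom (F := F) (n := n)).injective hBA]; exact hB,
      fun h => Subgroup.mem_map.2 ⟨A, h, rfl⟩⟩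
  have hlin : ContainsLin F K H := by
    intro g hg
    obtain ⟨A, hA⟩ := (toEquivHom (F := F) (n := n)).surjective (g.restrictScalars F)
    have hAx : ∀ x, (A : Mat) *ᵥ x = g x := fun x => by
      rw [← toEquivHom_apply, hA]; rfl
    rw [← hA, hmemH]
    refine hM ⟨?_, ?_⟩
    · intro k
      have hcomm : ∀ k ∈ K, (A : Mat) * k = k * (A : Mat) := fun k hk => mat_ext fun x => by
        rw [← mulVec_mulVec, ← mulVec_mulVec, hAx, hAx]
        exact map_smul g (⟨k, hk⟩ : K) x
      constructor
      · intro hk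
        rw [hcomm k hk, Units.mul_inv_cancel_right]
        exact hk
      · intro hk
        have h1 := hcomm _ hk
        rw [Units.inv_mul_cancel_right] at h1
        rwa [(Units.mul_right_inj A).1 h1] at hk
    · refine MonoidHom.mem_ker.2 (Units.ext ?_)
      rw [Matrix.GeneralLinearGroup.val_det_apply, ← LinearMap.det_toLin', Units.val_one, ← hg,
        ← LinearMap.det_restrictScalars]
      exact congrArg LinearMap.det (LinearMap.ext hAx)
  by_cases hnot : ∃ h ∈ H, ¬ IsSemi F K h
  · right
    intro A hA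
    have hdet : (A : Mat).det = 1 := by
      rw [Cfsg.Geo.specialLinear, MonoidHom.mem_ker] at hA
      exact congrArg Units.val hA
    haveI : Nontrivial (Fin n) := Fin.nontrivial_iff_two_le.2 (by have := hr.two_le; omega)
    let ι : SpecialLinearGroup (Fin n) F →* GL (Fin n) F := SpecialLinearGroup.toGL
    suffices h : ∀ S : SpecialLinearGroup (Fin n) F, ι S ∈ M by
      have h1 := h ⟨(A : Mat), hdet⟩
      rwa [show ι ⟨(A : Mat), hdet⟩ = A from Units.ext rfl] at h1
    intro S
    induction S using AutPSL.transvection_induction with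
    | htr i j hij c =>
      rw [← hmemH]
      let f : Module.Dual F Vec := c • LinearMap.proj j
      have hfv : f (Pi.single i (1 : F)) = 0 := by simp [f, Pi.single_eq_of_ne hij.symm]
      have hT := transvection_mem hlin (hfr.symm ▸ hr) hm hnot f (Pi.single i 1) hfv
      convert hT using 1
      refine LinearEquiv.ext fun x => ?_
      rw [toEquivHom_apply, LinearEquiv.transvection.apply]
      show ((SpecialLinearGroup.transvection hij c : SpecialLinearGroup (Fin n) F) : Mat) *ᵥ x = _
      rw [SpecialLinearGroup.transvection_coe, add_mulVec, one_mulVec, single_mulVec_eq]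
      simp [f, ← Pi.single_smul]
    | hmul A B hA hB =>
      rw [map_mul]; exact M.mul_mem hA hB
  · left
    push Not at hnot
    intro A hA
    have hs := hnot _ ((hmemH A).2 hA)
    choose d hd using hs
    have hconj : ∀ c : K, (A : Mat) * (c : Mat) * ((A⁻¹ : GL (Fin n) F) : Mat) = (d c : Mat) := by
      intro c
      have h1 : (A : Mat) * (c : Mat) = (d c : Mat) * (A : Mat) := mat_ext fun x => by
        rw [← mulVec_mulVec, ← mulVec_mulVec]
        have h := hd c x
        rw [toEquivHom_apply, toEquivHom_apply] at h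
        exact h
      rw [h1, Units.mul_inv_cancel_right]
    have hinj : Function.Injective d := fun a b hab => Subtype.ext <| by
      have h1 : (A : Mat) * (a : Mat) * ((A⁻¹ : GL (Fin n) F) : Mat) =
          (A : Mat) * (b : Mat) * ((A⁻¹ : GL (Fin n) F) : Mat) := by rw [hconj, hconj, hab]
      exact (Units.mul_right_inj A).1 ((Units.mul_left_inj A⁻¹).1 h1)
    intro k
    refine ⟨fun hk => ?_, fun hk => ?_⟩
    · rw [hconj ⟨k, hk⟩]; exact (d _).2
    · obtain ⟨c, hc⟩ := (Finite.injective_iff_surjective.1 hinj) ⟨_, hk⟩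
      have h1 : (A : Mat) * (c : Mat) * ((A⁻¹ : GL (Fin n) F) : Mat) =
          (A : Mat) * k * ((A⁻¹ : GL (Fin n) F) : Mat) := by rw [hconj, hc]
      have h2 : (c : Mat) = k := (Units.mul_right_inj A).1 ((Units.mul_left_inj A⁻¹).1 h1)
      exact h2 ▸ c.2

/-- The normaliser has every determinant. -/
theorem exists_mem_normalizer_det (hr : r.Prime) (hrn : r ∣ n) (hlt : r < n) {K : Subalgebra F (Matrix (Fin n) (Fin n) F)}
    (hK : Cfsg.Geo.IsFieldSubalgebra r K) (u : Fˣ) :
    ∃ g : GL (Fin n) F, g ∈ Cfsg.Geo.subalgebraNormalizer K ∧ Matrix.GeneralLinearGroup.det g = u := by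
  classical
  have hn : 0 < n := by omega
  letI : Field K := FieldSub.fieldOf (F := F) (n := n) (r := r) hn hK
  letI hmod : Module K Vec := vecModule K
  have hsmul : ∀ (k : K) (x : Vec), k • x = (k : Mat) *ᵥ x := fun k x => rfl
  haveI : @IsScalarTower F K Vec Algebra.toSMul hmod.toSMul inferInstance :=
    ⟨fun a k x => smul_mulVec a (k : Mat) x⟩
  haveI : Finite K := Finite.of_injective (fun x : K => (x : Mat)) Subtype.val_injective
  haveI : FiniteDimensional K Vec := Module.Finite.of_finite
  obtain ⟨c, hc⟩ := FiniteField.unitsMap_norm_surjective F K u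
  haveI : NeZero n := ⟨hn.ne'⟩
  obtain ⟨x, hx⟩ : ∃ x : Vec, x ∉ (⊥ : Submodule K Vec) :=
    ⟨Pi.single 0 1, by simp⟩
  obtain ⟨φ, hφ, -⟩ := exists_dual_eq_one hx
  have hu : IsUnit (1 + φ (((c : K) - 1) • x)) := by
    rw [map_smul, hφ, smul_eq_mul, mul_one, add_sub_cancel]
    exact c.isUnit
  let g := LinearEquiv.dilatransvection hu
  obtain ⟨A, hA⟩ := (toEquivHom (F := F) (n := n)).surjective (g.restrictScalars F)
  have hAx : ∀ x, (A : Mat) *ᵥ x = g x := fun x => by rw [← toEquivHom_apply, hA]; rfl
  have hcomm : ∀ k ∈ K, (A : Mat) * k = k * (A : Mat) := fun k hk => mat_ext fun y => by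
    rw [← mulVec_mulVec, ← mulVec_mulVec, hAx, hAx]
    exact map_smul g (⟨k, hk⟩ : K) y
  refine ⟨A, fun k => ⟨fun hk => ?_, fun hk => ?_⟩, Units.ext ?_⟩
  · rw [hcomm k hk, Units.mul_inv_cancel_right]; exact hk
  · have h1 := hcomm _ hk
    rw [Units.inv_mul_cancel_right] at h1
    rwa [(Units.mul_right_inj A).1 h1] at hk
  · rw [Matrix.GeneralLinearGroup.val_det_apply, ← LinearMap.det_toLin', ← hc, Units.coe_map]
    rw [show Matrix.toLin' (A : Mat) = (g : Vec →ₗ[K] Vec).restrictScalars F from LinearMap.ext hAx,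
      LinearMap.det_restrictScalars, LinearEquiv.dilatransvection.coe_toLinearMap,
      LinearMap.transvection.det]
    rw [show φ (((c : K) - 1) • x) = ((c : K) - 1) * φ x from LinearMap.map_smul φ _ x, hφ, mul_one,
      add_sub_cancel]

end

end Cfsg.Agent.Lib.ExtFieldMax
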