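import Cfsg.Agent.Lib.ExtFieldMax.Stab

/-!
A non-semilinear element stabilising a line, and a transvection, outside the case `q = r = 2`.
Owner: helper95.
-/
set_option autoImplicit false

namespace Cfsg.Agent.Lib.ExtFieldMax

open Module

variable {F K V : Type*} [Field F] [Field K] [Algebra F K] [AddCommGroup V] [Module F V]
  [Module K V] [IsScalarTower F K V] [Finite F] [Finite K] [Finite V]

variable {H : Subgroup (V ≃ₗ[F] V)}
variable (hlin : ContainsLin F K H) (hr : (finrank F K).Prime) (hm : 2 ≤ finrank K V)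
  (hnot : ∃ h ∈ H, ¬ IsSemi F K h)

/-- The map `c ↦ c • e`. -/
def lineMap (e : V) : K →ₗ[F] V where
  toFun c := c • e
  map_add' c d := add_smul c d e
  map_smul' a c := smul_assoc a c e

omit [Finite F] [Finite K] [Finite V] in
theorem lineMap_apply (e : V) (c : K) : (lineMap e : K →ₗ[F] V) c = c • e := rfl

include hlin hr hm hnot in
/-- An element of `H` stabilising a line and acting on it non-semilinearly. -/
theorem exists_nonsemi (hexc : finrank F K < Nat.card F ^ (finrank F K - 1)) {e : V} (he : e ≠ 0) :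
    ∃ g ∈ H, ∃ P : K ≃ₗ[F] K, P 1 = 1 ∧ (∀ c : K, g (c • e) = P c • e) ∧
      ∃ c d : K, P (c * d) ≠ P c * P d := by
  classical
  haveI : FiniteDimensional F V := Module.Finite.of_finite
  haveI := Fintype.ofFinite V
  haveI := Fintype.ofFinite K
  haveI := Fintype.ofFinite F
  by_contra hcon
  push Not at hcon
  -- a hyperplane of the line
  have hinj : Function.Injective (lineMap e : K →ₗ[F] V) := fun c d h => smul_left_injective K he h
  obtain ⟨γ, hγ⟩ : ∃ γ : K, γ ∉ Submodule.span F {(1 : K)} := by
    by_contra h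
    push Not at h
    have h1 := finrank_span_singleton (K := F) (one_ne_zero (α := K))
    rw [show Submodule.span F {(1 : K)} = ⊤ from eq_top_iff.2 fun x _ => h x, finrank_top] at h1
    exact hr.ne_one h1
  obtain ⟨lam, hlamγ, hlam⟩ := exists_dual_eq_one (K := F) hγ
  have hlam1 : lam 1 = 0 := hlam 1 (Submodule.mem_span_singleton_self _)
  have hkerK : finrank F (LinearMap.ker lam) + 1 = finrank F K :=
    Module.Dual.finrank_ker_add_one_of_ne_zero (fun h => by simp [h] at hlamγ)
  set U : Submodule F V := (LinearMap.ker lam).map (lineMap e) with hU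
  have hUdim : finrank F U + 1 = finrank F K := by
    rw [hU, ← (Submodule.equivMapOfInjective _ hinj (LinearMap.ker lam)).finrank_eq, hkerK]
  have hUS : (U : Set V) ⊆ (Submodule.span K {e} : Set V) := by
    rintro _ ⟨c, -, rfl⟩
    exact Submodule.smul_mem _ c (Submodule.mem_span_singleton_self e)
  have heU : e ∈ U := ⟨1, hlam1, one_smul K e⟩
  set q := Nat.card F
  set r := finrank F K
  set m := finrank K V
  have hq : 1 < q := Finite.one_lt_card
  have hr2 : 2 ≤ r := hr.two_le
  -- the points of the line outside `U`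
  set C : Finset K := Finset.univ.filter fun c => lam c ≠ 0 with hC
  set O : K → Finset V := fun c => (orb H (U : Set V) (c • e)).toFinset with hO
  have hbig : ∀ c ∈ C, q ^ (r * m - 1) ≤ (O c).card := by
    intro c hc
    have hcU : c • e ∉ U := by
      rintro ⟨d, hd, hde⟩
      obtain rfl : d = c := hinj hde
      exact (Finset.mem_filter.1 hc).2 hd
    obtain ⟨g, hg, hout⟩ : ∃ g ∈ fixG H (U : Set V), g (c • e) ∉ Submodule.span K {e} := by
      by_contra hh
      push Not at hh
      exact hcU (stay_submodule hlin hr hm hnot e he _ U rfl (by omega) (by omega) hUS _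
        (Submodule.smul_mem _ c (Submodule.mem_span_singleton_self e)) hh)
    rw [hO, Set.toFinset_card, ← Nat.card_eq_fintype_card, ← orb_eq_of_mem ⟨g, hg, rfl⟩]
    exact le_card_orb hlin (by omega) hm hUS hout
  have hdisj : ((C.image O : Finset (Finset V)) : Set (Finset V)).PairwiseDisjoint id := by
    intro s hs t ht hst
    obtain ⟨c, -, rfl⟩ := Finset.mem_image.1 hs
    obtain ⟨d, -, rfl⟩ := Finset.mem_image.1 ht
    refine Finset.disjoint_left.2 fun z hz hz' => hst ?_
    simp only [hO, id, Set.mem_toFinset] at hz hz'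
    simp only [hO]
    exact Set.toFinset_inj.2 ((orb_eq_of_mem hz).symm.trans (orb_eq_of_mem hz'))
  have hsum : (C.image O).card * q ^ (r * m - 1) < q ^ (r * m) := by
    calc (C.image O).card * q ^ (r * m - 1) = ∑ _s ∈ C.image O, q ^ (r * m - 1) := by
          rw [Finset.sum_const, smul_eq_mul]
      _ ≤ ∑ s ∈ C.image O, (id s).card := Finset.sum_le_sum fun s hs => by
          obtain ⟨c, hc, rfl⟩ := Finset.mem_image.1 hs
          exact hbig c hc
      _ = ((C.image O).biUnion id).card := (Finset.card_biUnion hdisj).symm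
      _ < (Finset.univ : Finset V).card := by
          refine Finset.card_lt_card (Finset.ssubset_univ_iff.2 fun h => ?_)
          obtain ⟨s, hs, h0⟩ := Finset.mem_biUnion.1 (h ▸ Finset.mem_univ (0 : V))
          obtain ⟨c, hc, rfl⟩ := Finset.mem_image.1 hs
          simp only [hO, id, Set.mem_toFinset] at h0
          refine ne_zero_of_mem_orb (smul_ne_zero ?_ he) h0 rfl
          rintro rfl
          exact (Finset.mem_filter.1 hc).2 (map_zero lam)
      _ = q ^ (r * m) := by rw [Finset.card_univ, ← Nat.card_eq_fintype_card, natCard_V (F := F) (K := K)]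
  have hklt : (C.image O).card < q := by
    have h1 : q ^ (r * m) = q * q ^ (r * m - 1) := by
      rw [← pow_succ', Nat.sub_add_cancel (Nat.one_le_iff_ne_zero.2 (by positivity))]
    rw [h1] at hsum
    exact Nat.lt_of_mul_lt_mul_right hsum
  have hCcard : C.card + q ^ (r - 1) = q ^ r := by
    have h1 : (Finset.univ.filter fun c => ¬ lam c ≠ 0).card = q ^ (r - 1) := by
      rw [show r - 1 = finrank F (LinearMap.ker lam) by omega, ← Fintype.card_subtype,
        ← Nat.card_eq_fintype_card, ← Module.natCard_eq_pow_finrank]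
      exact Nat.card_congr (Equiv.subtypeEquivRight fun c => by simp)
    rw [← h1, hC, Finset.card_filter_add_card_filter_not, Finset.card_univ,
      ← Nat.card_eq_fintype_card, natCard_K (F := F) (K := K)]
  obtain ⟨o, -, ho⟩ : ∃ o ∈ C.image O, r < (C.filter fun c => O c = o).card := by
    refine Finset.exists_lt_card_fiber_of_mul_lt_card_of_maps_to
      (fun c hc => Finset.mem_image_of_mem O hc) ?_
    obtain ⟨r', hr'⟩ : ∃ r', r = r' + 1 := ⟨r - 1, by omega⟩
    obtain ⟨q', hq'⟩ : ∃ q', q = q' + 1 := ⟨q - 1, by omega⟩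
    rw [hr', Nat.add_sub_cancel] at hCcard hexc
    rw [pow_succ, hq'] at hCcard
    rw [hq'] at hexc hklt
    rw [hr']
    have h2 : C.card = (q' + 1) ^ r' * q' := by
      have := hCcard; rw [Nat.mul_succ] at this; omega
    rw [h2]
    calc (C.image O).card * (r' + 1) ≤ q' * (r' + 1) := Nat.mul_le_mul_right _ (by omega)
      _ < q' * (q' + 1) ^ r' := Nat.mul_lt_mul_of_pos_left hexc (by omega)
      _ = _ := mul_comm _ _
  set Y := C.filter fun c => O c = o
  obtain ⟨c0, hc0⟩ : Y.Nonempty := Finset.card_pos.1 (by omega)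
  obtain ⟨hc0C, hc0o⟩ := Finset.mem_filter.1 hc0
  have hc0' : lam c0 ≠ 0 := (Finset.mem_filter.1 hc0C).2
  obtain ⟨κ, hκe, -⟩ := exists_dual_eq_one (K := K)
    (fun h => he ((Submodule.mem_bot K).1 h) : e ∉ (⊥ : Submodule K V))
  -- each point of the fibre gives an algebra endomorphism of `K`
  have halg : ∀ y : Y, ∃ σ : K →ₐ[F] K, σ c0 = y := by
    intro y
    obtain ⟨-, hyo⟩ := Finset.mem_filter.1 y.2
    have hmem : (y : K) • e ∈ orb H (U : Set V) (c0 • e) := by
      have : (y : K) • e ∈ O y := by simp only [hO, Set.mem_toFinset]; exact mem_orb_self _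
      rw [hyo, ← hc0o] at this
      simpa [hO] using this
    obtain ⟨g, hg, hgy⟩ := hmem
    have hgS : ∀ c : K, g (c • e) ∈ Submodule.span K {e} := by
      intro c
      set t := lam c * (lam c0)⁻¹
      have h1 : (c - t • c0) • e ∈ U := ⟨c - t • c0, by
        rw [SetLike.mem_coe, LinearMap.mem_ker, map_sub, map_smul, smul_eq_mul]
        simp [t, mul_assoc, inv_mul_cancel₀ hc0'], rfl⟩
      have h2 : c • e = (c - t • c0) • e + t • (c0 • e) := by
        rw [sub_smul, smul_assoc, sub_add_cancel]
      rw [h2, map_add, hg.2 _ h1, g.map_smul, hgy]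
      refine Submodule.add_mem _ (Submodule.smul_mem _ _ (Submodule.mem_span_singleton_self e)) ?_
      rw [← smul_F_eq (K := K)]
      exact Submodule.smul_mem _ _ (Submodule.smul_mem _ _ (Submodule.mem_span_singleton_self e))
    let P₀ : K →ₗ[F] K := (κ.restrictScalars F).comp ((g : V →ₗ[F] V).comp (lineMap e))
    have hP₀ : ∀ c : K, g (c • e) = P₀ c • e := by
      intro c
      obtain ⟨d, hd⟩ := Submodule.mem_span_singleton.1 (hgS c)
      show g (c • e) = κ (g (c • e)) • e
      rw [← hd, map_smul, hκe, smul_eq_mul, mul_one]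
    have hP₀inj : Function.Injective P₀ := fun c d h => hinj (g.injective (by
      rw [lineMap_apply, lineMap_apply, hP₀, hP₀, h]))
    let P : K ≃ₗ[F] K := LinearEquiv.ofBijective P₀ ⟨hP₀inj, Finite.injective_iff_surjective.1 hP₀inj⟩
    have hP1 : P₀ 1 = 1 := by
      show κ (g ((1 : K) • e)) = 1
      rw [one_smul, hg.2 e heU, hκe]
    have hmul := hcon g hg.1 P hP1 hP₀
    refine ⟨AlgHom.ofLinearMap P₀ hP1 hmul, ?_⟩
    show κ (g (c0 • e)) = y
    rw [hgy, map_smul, hκe, smul_eq_mul, mul_one]
  choose σ hσ using halg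
  have h1 : Nat.card Y ≤ Nat.card (K →ₐ[F] K) := by
    haveI : Finite (K →ₐ[F] K) := Finite.of_injective (fun f : K →ₐ[F] K => (f : K → K))
      (fun a b h => AlgHom.ext (congrFun h))
    exact Nat.card_le_card_of_injective σ fun a b h => Subtype.ext (by rw [← hσ a, h, hσ b])
  rw [Nat.card_eq_finsetCard] at h1
  have h2 : Nat.card (K →ₐ[F] K) ≤ r := card_algHom_le_finrank F K K
  omega

include hlin hr hm hnot in
/-- One transvection group. -/
theorem exists_transvection_group (hexc : finrank F K < Nat.card F ^ (finrank F K - 1)) :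
    ∃ (f : Module.Dual F V) (v : V), f v = 0 ∧ f ≠ 0 ∧ v ≠ 0 ∧
      ∀ a : F, ∃ g ∈ H, ∀ x, g x = x + (a * f x) • v := by
  classical
  haveI : Nontrivial V := Module.nontrivial_of_finrank_pos (R := K) (by omega)
  obtain ⟨e, he⟩ := exists_ne (0 : V)
  obtain ⟨g, hg, P, hP1, hP, hPnm⟩ := exists_nonsemi hlin hr hm hnot hexc he
  -- unipotents centred on the line
  let R : Submodule F (Module.End F K) :=
    { carrier := {P | ∀ φ : Module.Dual K V, φ e = 0 → ∃ h ∈ H, ∀ x, h x = x + P (φ x) • e}
      add_mem' := by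
        intro P Q hP hQ φ hφ
        obtain ⟨a, ha, hax⟩ := hP φ hφ
        obtain ⟨b, hb, hbx⟩ := hQ φ hφ
        refine ⟨a * b, H.mul_mem ha hb, fun x => ?_⟩
        show a (b x) = _
        rw [hax, hbx, map_add, map_smul, hφ, smul_zero, add_zero, LinearMap.add_apply, add_smul]
        abel
      zero_mem' := fun φ _ => ⟨1, H.one_mem, fun x => by simp⟩
      smul_mem' := by
        intro a P hP φ hφ
        obtain ⟨h, hh, hx⟩ := hP (algebraMap F K a • φ) (by simp [hφ])
        refine ⟨h, hh, fun x => ?_⟩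
        rw [hx, LinearMap.smul_apply, LinearMap.smul_apply, smul_eq_mul, ← Algebra.smul_def, map_smul] }
  have hlmul : ∀ c : K, LinearMap.mulLeft F c ∈ R := by
    intro c φ hφ
    obtain ⟨h, hh, hx⟩ := exists_transvection hlin (c • φ) e (by simp [hφ])
    exact ⟨h, hh, fun x => by rw [hx]; simp⟩
  let R' : Subalgebra F (Module.End F K) :=
    { carrier := {Q | ∀ P ∈ R, Q * P ∈ R}
      mul_mem' := fun {Q Q'} h h' P hP => by rw [mul_assoc]; exact h _ (h' P hP)
      one_mem' := fun P hP => by rwa [one_mul]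
      add_mem' := fun {Q Q'} h h' P hP => by rw [add_mul]; exact R.add_mem (h P hP) (h' P hP)
      zero_mem' := fun P _ => by rw [zero_mul]; exact R.zero_mem
      algebraMap_mem' := fun a P hP => by
        rw [← Algebra.smul_def]; exact R.smul_mem a hP }
  have hQ : ∀ d ∈ H, ∀ Q : Module.End F K, (∀ x, d x - x ∈ Submodule.span K {e}) →
      (∀ c : K, d (c • e) = Q c • e) → Q ∈ R' := by
    intro d hd Q hmod hQe P hPR φ hφ
    obtain ⟨a, ha, hax⟩ := hPR φ hφ
    refine ⟨d * a * d⁻¹, H.mul_mem (H.mul_mem hd ha) (H.inv_mem hd), fun x => ?_⟩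
    show d (a (d⁻¹ x)) = _
    rw [hax, map_add, apply_inv_self', hQe]
    have h1 : φ (d⁻¹ x) = φ x := by
      obtain ⟨c, hc⟩ := Submodule.mem_span_singleton.1 (hmod (d⁻¹ x))
      rw [apply_inv_self'] at hc
      have := congrArg φ hc
      rw [map_smul, hφ, smul_zero, map_sub] at this
      exact (sub_eq_zero.1 this.symm).symm
    rw [h1]
    rfl
  -- a norm-one non-scalar
  obtain ⟨c0, hc0, hc0F⟩ : ∃ c0 : K, Algebra.norm F c0 = 1 ∧ c0 ∉ Set.range (algebraMap F K) := by
    by_contra hcon
    push Not at hcon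
    have h1 := le_card_norm_one (F := F) (K := K) hr.one_le
    have h2 : Nat.card {c : K // Algebra.norm F c = 1} ≤ Nat.card Fˣ := by
      choose a ha using fun c : {c : K // Algebra.norm F c = 1} => hcon c.1 c.2
      refine Nat.card_le_card_of_injective (fun c => Units.mk0 (a c) fun h => ?_) fun c d h => ?_
      · have := c.2
        rw [← ha c, h, map_zero, Algebra.norm_zero] at this
        exact zero_ne_one this
      · exact Subtype.ext (by rw [← ha c, ← ha d, show a c = a d from congrArg Units.val h])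
    rw [Nat.card_units] at h2
    have h4 : Nat.card F ≤ Nat.card F ^ (finrank F K - 1) :=
      Nat.le_self_pow (by have := hr.two_le; omega) _
    have : 0 < Nat.card F := Nat.card_pos
    omega
  obtain ⟨κ, hκe, -⟩ := exists_dual_eq_one (K := K)
    (fun h => he ((Submodule.mem_bot K).1 h) : e ∉ (⊥ : Submodule K V))
  obtain ⟨δ, hδ, hδx⟩ := exists_dilation hlin κ ((c0 - 1) • e) c0 (by simp [hκe]) hc0
  have hδmod : ∀ x, δ x - x ∈ Submodule.span K {e} := fun x => by
    rw [hδx, add_sub_cancel_left]
    exact Submodule.smul_mem _ _ (Submodule.smul_mem _ _ (Submodule.mem_span_singleton_self e))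
  have hδe : ∀ c : K, δ (c • e) = (c0 * c) • e := fun c => by
    rw [hδx, map_smul, hκe, smul_eq_mul, mul_one, ← mul_smul, ← add_smul]
    congr 1; ring
  have hc0R : Algebra.lmul F K c0 ∈ R' := hQ δ hδ _ hδmod hδe
  let conjP : Module.End F K ≃ₐ[F] Module.End F K := P.conjAlgEquiv F
  have hgS : ∀ x ∈ Submodule.span K {e}, g x ∈ Submodule.span K {e} := by
    intro x hx
    obtain ⟨c, rfl⟩ := Submodule.mem_span_singleton.1 hx
    rw [hP]
    exact Submodule.smul_mem _ _ (Submodule.mem_span_singleton_self e)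
  have hc0R' : conjP (Algebra.lmul F K c0) ∈ R' := by
    refine hQ (g * δ * g⁻¹) (H.mul_mem (H.mul_mem hg hδ) (H.inv_mem hg)) _ (fun x => ?_) (fun c => ?_)
    · have h1 : (g * δ * g⁻¹) x - x = g (δ (g⁻¹ x) - g⁻¹ x) := by
        rw [map_sub, apply_inv_self']; rfl
      rw [h1]
      exact hgS _ (hδmod _)
    · show g (δ (g⁻¹ (c • e))) = P (c0 * P.symm c) • e
      have h1 : g⁻¹ (c • e) = P.symm c • e := by
        apply g.injective
        rw [apply_inv_self', hP, P.apply_symm_apply]
      rw [h1, hδe, hP]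
  have hL : ∀ c : K, Algebra.lmul F K c ∈ R' := fun c => by
    have := subalgebra_eq_top hr (R'.comap (Algebra.lmul F K)) (c := c0) hc0R hc0F
    exact (this ▸ Algebra.mem_top : c ∈ R'.comap (Algebra.lmul F K))
  have hL' : ∀ c : K, conjP (Algebra.lmul F K c) ∈ R' := fun c => by
    have := subalgebra_eq_top hr (R'.comap (conjP.toAlgHom.comp (Algebra.lmul F K))) (c := c0) hc0R' hc0F
    exact (this ▸ Algebra.mem_top : c ∈ R'.comap (conjP.toAlgHom.comp (Algebra.lmul F K)))
  -- the commutant is `F`
  have hcomm : ∀ f : Module.End R' K, ∃ a : F, ∀ x, f x = a • x := by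
    intro f
    set γ := f 1 with hγ
    have hf : ∀ x, f x = x * γ := by
      intro x
      have h1 := f.map_smul ⟨_, hL x⟩ (1 : K)
      simp only [Subalgebra.smul_def, Module.End.smul_def, Algebra.lmul] at h1
      simpa using h1
    set δ' := P.symm γ with hδ'
    let Lam : Subalgebra F K :=
      { carrier := {δ | ∀ c, P (c * δ) = P c * P δ}
        mul_mem' := fun {a b} ha hb c => by rw [← mul_assoc, hb, ha, hb, mul_assoc]
        one_mem' := fun c => by rw [mul_one, hP1, mul_one]
        add_mem' := fun {a b} ha hb c => by rw [mul_add, map_add, ha, hb, map_add, mul_add]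
        zero_mem' := fun c => by rw [mul_zero, map_zero, mul_zero]
        algebraMap_mem' := fun a c => by
          rw [← Algebra.commutes, ← Algebra.smul_def, map_smul, Algebra.algebraMap_eq_smul_one,
            map_smul, hP1, mul_smul_comm, mul_one] }
    have hP1' : P.symm 1 = 1 := by rw [P.symm_apply_eq, hP1]
    have hδL : δ' ∈ Lam := by
      intro c
      have h1 := f.map_smul ⟨_, hL' c⟩ (1 : K)
      have h2 : f (P (c * P.symm 1)) = P (c * P.symm (f 1)) := h1
      rw [hP1', mul_one, hf, ← hγ, ← hδ'] at h2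
      rw [← h2, hδ', P.apply_symm_apply]
    obtain ⟨a, ha⟩ : δ' ∈ Set.range (algebraMap F K) := by
      by_contra hne
      obtain ⟨c, d, hcd⟩ := hPnm
      exact hcd ((subalgebra_eq_top hr Lam hδL hne ▸ Algebra.mem_top : d ∈ Lam) c)
    refine ⟨a, fun x => ?_⟩
    rw [hf, show γ = algebraMap F K a by
      rw [← P.apply_symm_apply γ, ← hδ', ← ha, Algebra.algebraMap_eq_smul_one, map_smul, hP1],
      Algebra.smul_def, mul_comm]
  -- density: `R' = ⊤`
  haveI : IsSimpleModule R' K := by
    haveI : IsSimpleOrder (Submodule R' K) :=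
      { exists_pair_ne := ⟨⊥, ⊤, bot_ne_top⟩
        eq_bot_or_eq_top := fun N => by
          by_cases hN : N = ⊥
          · exact Or.inl hN
          · obtain ⟨x, hx, hx0⟩ := Submodule.exists_mem_ne_zero_of_ne_bot hN
            refine Or.inr (eq_top_iff.2 fun y _ => ?_)
            have h1 : (y / x) * x ∈ N := N.smul_mem (⟨_, hL (y / x)⟩ : R') hx
            rwa [div_mul_cancel₀ y hx0] at h1 }
    constructor
  haveI := Fintype.ofFinite K
  have htop : ∀ Q : Module.End F K, Q ∈ R' := by
    intro Q
    let f : Module.End (Module.End R' K) K :=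
      { toFun := Q
        map_add' := Q.map_add
        map_smul' := fun φ m => by
          obtain ⟨a, ha⟩ := hcomm φ
          simp [Module.End.smul_def, ha] }
    obtain ⟨⟨Q', hQ'⟩, h⟩ := jacobson_density (R := R') (M := K) f (Finset.univ : Finset K)
    have : Q = Q' := LinearMap.ext fun x => h x (Finset.mem_univ x)
    exact this ▸ hQ'
  have hR : ∀ Q : Module.End F K, Q ∈ R := fun Q => by
    have := htop Q _ (hlmul 1)
    rwa [LinearMap.mulLeft_one, show (LinearMap.id : Module.End F K) = 1 from rfl, mul_one] at this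
  -- a rank-one member
  obtain ⟨z, hz⟩ : ∃ z, z ∉ Submodule.span K {e} := by
    by_contra hcon
    push Not at hcon
    have h1 := finrank_span_singleton (K := K) he
    rw [show Submodule.span K {e} = ⊤ from eq_top_iff.2 fun z _ => hcon z, finrank_top] at h1
    omega
  obtain ⟨φ, hφz, hφ⟩ := exists_dual_eq_one (K := K) hz
  obtain ⟨lam, hlam, -⟩ := exists_dual_eq_one (K := F)
    (fun h => one_ne_zero ((Submodule.mem_bot F).1 h) : (1 : K) ∉ (⊥ : Submodule F K))
  refine ⟨lam.comp (φ.restrictScalars F), e, ?_, ?_, he, fun a => ?_⟩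
  · show lam (φ e) = 0
    rw [hφ e (Submodule.mem_span_singleton_self e), map_zero]
  · intro h
    have h1 := LinearMap.congr_fun h z
    simp [hφz, hlam] at h1
  · obtain ⟨h, hh, hx⟩ := hR (a • LinearMap.smulRight lam (1 : K)) φ (hφ e (Submodule.mem_span_singleton_self e))
    refine ⟨h, hh, fun x => ?_⟩
    rw [hx, ← smul_F_eq (K := K) (a * lam.comp (φ.restrictScalars F) x) e]
    congr 2
    simp [Algebra.algebraMap_eq_smul_one, mul_smul]

end Cfsg.Agent.Lib.ExtFieldMax
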