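import Cfsg.Agent.Lib.ExtFieldMax.Basic

/-!
Outside `ΓL_m(K)`, the fixer of an `F`-subspace of a `K`-line moves every other point of the
line off the line.
Owner: helper95.
-/
set_option autoImplicit false

namespace Cfsg.Agent.Lib.ExtFieldMax

open Module

variable {F K V : Type*} [Field F] [Field K] [Algebra F K] [AddCommGroup V] [Module F V]
  [Module K V] [IsScalarTower F K V] [Finite F] [Finite K] [Finite V]

theorem smul_F_eq (c : F) (x : V) : algebraMap F K c • x = c • x := algebraMap_smul K c x

theorem span_singleton_eq_of_mem {e e' : V} (he' : e' ≠ 0) (h : e' ∈ Submodule.span K {e}) :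
    Submodule.span K {e'} = Submodule.span K {e} := by
  obtain ⟨c, rfl⟩ := Submodule.mem_span_singleton.1 h
  exact Submodule.span_singleton_smul_eq ((smul_ne_zero_iff.1 he').1.isUnit) e

theorem subalgebra_eq_top (hr : (finrank F K).Prime) (L : Subalgebra F K) {c : K} (hc : c ∈ L)
    (hc' : c ∉ Set.range (algebraMap F K)) : L = ⊤ := by
  haveI := Subalgebra.isSimpleOrder_of_finrank_prime F K hr
  refine (eq_bot_or_eq_top L).resolve_left fun h => hc' ?_
  rw [h] at hc
  exact Algebra.mem_bot.1 hc

variable {H : Subgroup (V ≃ₗ[F] V)}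

/-- If all fixers of vectors stabilise their lines, everything is semilinear. -/
theorem isSemi_of_lines (hm : 2 ≤ finrank K V) (h : V ≃ₗ[F] V)
    (hline : ∀ (c : K) (v : V), h (c • v) ∈ Submodule.span K {h v}) : IsSemi F K h := by
  intro c
  have hind : ∀ u : V, u ≠ 0 → ∃ w, w ∉ Submodule.span K {u} := by
    intro u hu
    by_contra hcon
    push Not at hcon
    have h1 := finrank_span_singleton (K := K) hu
    rw [show Submodule.span K {u} = ⊤ from eq_top_iff.2 fun z _ => hcon z, finrank_top] at h1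
    omega
  choose d hd using fun v => Submodule.mem_span_singleton.1 (hline c v)
  haveI : Nontrivial V := Module.nontrivial_of_finrank_pos (R := K) (by omega)
  obtain ⟨u, hu⟩ := exists_ne (0 : V)
  -- `hout`: the scalar is the same for two vectors whose images are independent
  have hout : ∀ v w : V, v ≠ 0 → h w ∉ Submodule.span K {h v} → d v = d w := by
    intro v w hv hw
    have h1 : d (v + w) • (h v + h w) = d v • h v + d w • h w := by
      rw [hd, hd, ← h.map_add v w, hd, smul_add, map_add]
    rw [smul_add] at h1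
    have h2 : (d (v + w) - d v) • h v = (d w - d (v + w)) • h w := by
      rw [sub_smul, sub_smul, sub_eq_sub_iff_add_eq_add, h1]; abel
    by_cases h3 : d w - d (v + w) = 0
    · rw [h3, zero_smul] at h2
      rcases smul_eq_zero.1 h2 with h4 | h4
      · rw [sub_eq_zero] at h3 h4
        rw [← h4, h3]
      · exact absurd (h.map_eq_zero_iff.1 h4) hv
    · exfalso
      apply hw
      refine Submodule.mem_span_singleton.2 ⟨(d w - d (v + w))⁻¹ * (d (v + w) - d v), ?_⟩
      rw [mul_smul, h2, inv_smul_smul₀ h3]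
  refine ⟨d u, fun x => ?_⟩
  by_cases hx : x = 0
  · simp [hx]
  rw [← hd x]
  congr 1
  by_cases hxu : h x ∈ Submodule.span K {h u}
  · obtain ⟨w, hw⟩ := hind (h u) (fun h0 => hu (h.map_eq_zero_iff.1 h0))
    obtain ⟨w', rfl⟩ := h.surjective w
    have hxw : h w' ∉ Submodule.span K {h x} := fun hc => hw (by
      rwa [span_singleton_eq_of_mem (fun h0 => hx (h.map_eq_zero_iff.1 h0)) hxu] at hc)
    rw [hout u w' hu hw, hout x w' hx hxw]
  · exact (hout u x hu hxu).symm

variable (hlin : ContainsLin F K H) (hr : (finrank F K).Prime) (hm : 2 ≤ finrank K V)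
  (hnot : ∃ h ∈ H, ¬ IsSemi F K h)

include hlin hr hm hnot

/-- Fixing one vector: only its `F`-multiples stay on its line. -/
theorem stay_singleton {e x : V} (he : e ≠ 0) (hx : x ∈ Submodule.span K {e})
    (hstay : ∀ g ∈ fixG H {e}, g x ∈ Submodule.span K {e}) : x ∈ Submodule.span F {e} := by
  let L : Subalgebra F K :=
    { carrier := {c | ∀ g ∈ fixG H {e}, g (c • e) ∈ Submodule.span K {e}}
      mul_mem' := by
        intro d c hd hc g hg
        simp only [Set.mem_setOf_eq] at hd hc
        by_cases hd0 : d = 0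
        · rw [hd0, zero_mul, zero_smul, map_zero]; exact Submodule.zero_mem _
        obtain ⟨t, ht⟩ := Submodule.mem_span_singleton.1 (hd g hg)
        have ht0 : t • e ≠ 0 := by
          rw [ht]; exact fun h => smul_ne_zero hd0 he (g.map_eq_zero_iff.1 h)
        obtain ⟨k, hk, hke, hkl⟩ := exists_lin_map hlin hm he (smul_ne_zero hd0 he)
        obtain ⟨k', hk', hke', hkl'⟩ := exists_lin_map hlin hm he ht0
        have hmem : k'⁻¹ * g * k ∈ fixG H {e} := by
          refine ⟨H.mul_mem (H.mul_mem (H.inv_mem hk') hg.1) hk, ?_⟩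
          rintro u rfl
          show k'⁻¹ (g (k u)) = u
          rw [hke, ← ht, ← hke', inv_apply_self]
        obtain ⟨s, hs⟩ := Submodule.mem_span_singleton.1 (hc _ hmem)
        refine Submodule.mem_span_singleton.2 ⟨s * t, ?_⟩
        have h1 : k' ((k'⁻¹ * g * k) (c • e)) = g (k (c • e)) := apply_inv_self' _ _
        rw [← hs, hkl', hke', hkl, hke, ← mul_smul, ← mul_smul, mul_comm c d] at h1
        exact h1
      one_mem' := fun g hg => by
        rw [one_smul, hg.2 e rfl]; exact Submodule.mem_span_singleton_self e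
      add_mem' := fun {a b} ha hb g hg => by
        rw [add_smul, map_add]; exact Submodule.add_mem _ (ha g hg) (hb g hg)
      zero_mem' := fun g hg => by rw [zero_smul, map_zero]; exact Submodule.zero_mem _
      algebraMap_mem' := fun c g hg => by
        rw [smul_F_eq, map_smul, hg.2 e rfl, ← smul_F_eq (K := K)]
        exact Submodule.smul_mem _ _ (Submodule.mem_span_singleton_self e) }
  obtain ⟨c, rfl⟩ := Submodule.mem_span_singleton.1 hx
  by_contra hcon
  have hL : L = ⊤ := subalgebra_eq_top hr L (c := c) hstay (by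
    rintro ⟨a, rfl⟩
    exact hcon (Submodule.mem_span_singleton.2 ⟨a, (smul_F_eq a e).symm⟩))
  obtain ⟨h, hh, hns⟩ := hnot
  refine hns (isSemi_of_lines hm h fun c v => ?_)
  by_cases hv : v = 0
  · simp [hv]
  obtain ⟨k, hk, hke, hkl⟩ := exists_lin_map hlin hm he hv
  obtain ⟨k', hk', hke', hkl'⟩ := exists_lin_map hlin hm he
    (fun h0 => hv (h.map_eq_zero_iff.1 h0) : h v ≠ 0)
  have hmem : k'⁻¹ * h * k ∈ fixG H {e} := by
    refine ⟨H.mul_mem (H.mul_mem (H.inv_mem hk') hh) hk, ?_⟩
    rintro u rfl
    show k'⁻¹ (h (k u)) = u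
    rw [hke, ← hke', inv_apply_self]
  have hcL : c ∈ L := hL ▸ Algebra.mem_top
  obtain ⟨s, hs⟩ := Submodule.mem_span_singleton.1 (hcL _ hmem)
  have h1 : k' ((k'⁻¹ * h * k) (c • e)) = h (k (c • e)) := apply_inv_self' _ _
  rw [← hs, hkl', hke', hkl, hke] at h1
  exact Submodule.mem_span_singleton.2 ⟨s, h1⟩

/-- **Induction.** The fixer of a subspace `U` of dimension `< r` of a line keeps only `U` on it. -/
theorem stay_submodule (e : V) (he : e ≠ 0) :
    ∀ (j : ℕ) (U : Submodule F V), finrank F U = j → 0 < j → j < finrank F K →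
      (U : Set V) ⊆ (Submodule.span K {e} : Set V) → ∀ x ∈ Submodule.span K {e},
        (∀ g ∈ fixG H (U : Set V), g x ∈ Submodule.span K {e}) → x ∈ U := by
  haveI : FiniteDimensional F V := Module.Finite.of_finite
  intro j
  induction j using Nat.strong_induction_on with
  | _ j IH =>
  intro U hj hpos hlt hUS y hy hstay
  obtain ⟨a0, ha0U, ha00⟩ : ∃ a, a ∈ U ∧ a ≠ 0 := by
    have : U ≠ ⊥ := fun h => by rw [h, finrank_bot] at hj; omega
    exact Submodule.exists_mem_ne_zero_of_ne_bot this
  have hspan := span_singleton_eq_of_mem (K := K) ha00 (hUS ha0U)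
  by_cases hj1 : j = 1
  · have hU : Submodule.span F {a0} = U := Submodule.eq_of_le_of_finrank_le
      ((Submodule.span_singleton_le_iff_mem _ _).2 ha0U)
      (by rw [hj, hj1, finrank_span_singleton ha00])
    rw [← hU] at hstay ⊢
    rw [fixG_span_singleton] at hstay
    exact stay_singleton hlin hr hm hnot ha00 (by rwa [hspan]) (by rwa [hspan])
  -- a hyperplane `A` of `U` containing `a0`
  obtain ⟨u0, hu0U, hu0a⟩ : ∃ u ∈ U, u ∉ Submodule.span F {a0} := by
    by_contra hcon
    push Not at hcon
    have := Submodule.finrank_mono (show U ≤ Submodule.span F {a0} from hcon)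
    rw [finrank_span_singleton ha00] at this
    omega
  obtain ⟨f, hfu, hf⟩ := exists_dual_eq_one (K := F) hu0a
  set A : Submodule F V := U ⊓ LinearMap.ker f with hA
  have hAU : A ≤ U := inf_le_left
  have ha0A : a0 ∈ A := ⟨ha0U, hf _ (Submodule.mem_span_singleton_self a0)⟩
  have hu0A : u0 ∉ A := fun h => one_ne_zero (hfu ▸ LinearMap.mem_ker.1 h.2)
  have hsup : A ⊔ Submodule.span F {u0} = U := by
    refine le_antisymm (sup_le hAU ((Submodule.span_singleton_le_iff_mem _ _).2 hu0U)) fun x hx => ?_
    refine Submodule.mem_sup.2 ⟨x - f x • u0, ⟨U.sub_mem hx (U.smul_mem _ hu0U), ?_⟩, f x • u0,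
      Submodule.smul_mem _ _ (Submodule.mem_span_singleton_self u0), sub_add_cancel _ _⟩
    rw [SetLike.mem_coe, LinearMap.mem_ker, map_sub, map_smul, hfu, smul_eq_mul, mul_one, sub_self]
  have hAj : finrank F A < j := hj ▸ Submodule.finrank_lt_finrank_of_lt
    (lt_of_le_of_ne hAU fun h => hu0A (h.symm ▸ hu0U))
  have hA0 : 0 < finrank F A := Submodule.one_le_finrank_iff.2
    (fun h => ha00 (by rw [h, Submodule.mem_bot] at ha0A; exact ha0A))
  have hAS : (A : Set V) ⊆ (Submodule.span K {e} : Set V) := fun x hx => hUS (hAU hx)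
  have hP : ∀ x ∈ Submodule.span K {e}, x ∉ A →
      ∃ g ∈ fixG H (A : Set V), g x ∉ Submodule.span K {e} := by
    intro x hx hxA
    by_contra hcon
    push Not at hcon
    exact hxA (IH _ hAj A rfl hA0 (by omega) hAS x hx hcon)
  obtain ⟨g, hg, hu2⟩ := hP u0 (hUS hu0U) hu0A
  set u2 := g u0 with hu2def
  set q := Nat.card F
  set r := finrank F K with hrdef
  set m := finrank K V with hmdef
  have hr2 : 2 ≤ r := hr.two_le
  have hq : 1 < q := Finite.one_lt_card
  have hnum : r + (r * m) ≤ (r * m - 1) + (r * m - 1) := by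
    have : r * 2 ≤ r * m := Nat.mul_le_mul_left _ hm
    omega
  have hT : q ^ r ≤ q ^ (r * m - 1) := Nat.pow_le_pow_right hq.le (by omega)
  -- the key intersection property
  have hclaim : ∀ y' ∈ Submodule.span K {e},
      (∀ k ∈ fixG H (U : Set V), k y' ∈ Submodule.span K {e}) →
      g y' ∈ Submodule.span K {e} → y' ∈ A := by
    intro y' hy' hst hgy
    by_contra hy'A
    have hy'0 : y' ≠ 0 := fun h => hy'A (h ▸ A.zero_mem)
    have hu00 : u0 ≠ 0 := fun h => hu0A (h ▸ A.zero_mem)
    obtain ⟨g', hg', hout'⟩ := hP y' hy' hy'A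
    have hb1 : q ^ (r * m - 1) ≤ Nat.card (orb H (A : Set V) y') := by
      rw [← orb_eq_of_mem ⟨g', hg', rfl⟩]
      exact le_card_orb hlin (by omega) hm hAS hout'
    have hsm : Nat.card (orb H (insert u0 (A : Set V)) y') < q ^ r := by
      refine card_orb_lt hm hy'0 fun k hk => hst k ?_
      rwa [← hsup, fixG_sup_span]
    have hu0big : Nat.card (orb H (A : Set V) u0) ≤ q ^ (r * m) := by
      rw [← natCard_V (F := F) (K := K) (V := V)]
      exact Finite.card_subtype_le _
    have hbsmall : Nat.card (orb H (insert y' (A : Set V)) u0) < q ^ (r * m - 1) := by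
      by_contra hbig
      push Not at hbig
      have h1 := card_orb_comm (H := H) (s := (A : Set V)) u0 y'
      have h2 : q ^ (r * m - 1) * q ^ (r * m - 1) < q ^ (r * m) * q ^ r :=
        calc _ ≤ _ := Nat.mul_le_mul hb1 hbig
          _ = _ := h1.symm
          _ ≤ q ^ (r * m) * Nat.card (orb H (insert u0 (A : Set V)) y') :=
              Nat.mul_le_mul_right _ hu0big
          _ < _ := Nat.mul_lt_mul_of_pos_left hsm (pow_pos (by omega) _)
      rw [← pow_add, ← pow_add, Nat.pow_lt_pow_iff_right hq] at h2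
      omega
    have himg : g '' insert y' (A : Set V) = insert (g y') (A : Set V) := by
      rw [Set.image_insert_eq]
      congr 1
      ext z
      exact ⟨fun ⟨a, ha, hz⟩ => hz ▸ (hg.2 a ha).symm ▸ ha, fun hz => ⟨z, hz, hg.2 z hz⟩⟩
    have hbig2 : q ^ (r * m - 1) ≤ Nat.card (orb H (insert (g y') (A : Set V)) u2) :=
      le_card_orb hlin (by omega) hm (Set.insert_subset hgy hAS) hu2
    rw [hu2def, ← himg, orb_image hg.1, Nat.card_image_of_injective g.injective] at hbig2
    omega
  by_contra hyU
  -- functional separating `u2` and moving `g y` by a non-scalar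
  have key : ∀ φ : Module.Dual K V, φ e = 0 → φ u2 = 1 → ∀ a ∈ A, φ (g y) • a ∈ A := by
    intro φ hφe hφu a ha
    have hφS : ∀ z ∈ Submodule.span K {e}, φ z = 0 := by
      intro z hz
      obtain ⟨c, rfl⟩ := Submodule.mem_span_singleton.1 hz
      rw [map_smul, hφe, smul_zero]
    obtain ⟨τ, hτ, hτx⟩ := exists_transvection hlin φ a (hφS a (hAS ha))
    set t := g⁻¹ * τ * g with ht
    have hga : ∀ x ∈ A, g⁻¹ x = x := fun x hx => inv_apply_of_mem_fixG hg hx
    have htA : ∀ x ∈ A, t x = x := by
      intro x hx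
      show g⁻¹ (τ (g x)) = x
      rw [hg.2 x hx, hτx, hφS x (hAS hx), zero_smul, add_zero, hga x hx]
    have htu : t u0 = u0 + a := by
      show g⁻¹ (τ (g u0)) = u0 + a
      rw [← hu2def, hτx, hφu, one_smul, map_add, hga a ha, hu2def, inv_apply_self]
    have htH : t ∈ H := H.mul_mem (H.mul_mem (H.inv_mem hg.1) hτ) hg.1
    have htU : t '' (U : Set V) = U := by
      refine Set.eq_of_subset_of_ncard_le ?_ (by rw [Set.ncard_image_of_injective _ t.injective])
        (Set.toFinite _)
      rintro _ ⟨x, hx, rfl⟩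
      have hx' : x ∈ A ⊔ Submodule.span F {u0} := hsup.symm ▸ hx
      obtain ⟨a', ha', b', hb', rfl⟩ := Submodule.mem_sup.1 hx'
      obtain ⟨c, rfl⟩ := Submodule.mem_span_singleton.1 hb'
      rw [map_add, map_smul, htA a' ha', htu]
      exact U.add_mem (hAU ha') (U.smul_mem _ (U.add_mem hu0U (hAU ha)))
    have hy0 : y ≠ 0 := fun h => hyU (h ▸ U.zero_mem)
    have hty : ∀ k ∈ fixG H (U : Set V), k (t y) ∈ Submodule.span K {e} := by
      intro k hk
      by_contra hout'
      have h1 := le_card_orb hlin (by omega) hm hUS hout'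
      have h2 := card_orb_lt hm hy0 hstay
      rw [orb_eq_of_mem ⟨k, hk, rfl⟩] at h1
      conv at h1 => rhs; rw [← htU]
      rw [orb_image htH, Nat.card_image_of_injective t.injective] at h1
      exact absurd (lt_of_le_of_lt h1 h2) (not_lt.2 hT)
    have hty0 : t y ∈ Submodule.span K {e} := hty 1 (Subgroup.one_mem _)
    have hw : g (t y - y) = φ (g y) • a := by
      rw [map_sub]
      show g (g⁻¹ (τ (g y))) - g y = _
      rw [apply_inv_self', hτx, add_sub_cancel_left]
    have hwA : t y - y ∈ A := hclaim _ (Submodule.sub_mem _ hty0 hy)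
      (fun k hk => by rw [map_sub]; exact Submodule.sub_mem _ (hty k hk) (hstay k hk))
      (by rw [hw]; exact Submodule.smul_mem _ _ (hAS ha))
    rw [← hw, hg.2 _ hwA]
    exact hwA
  -- choose the functional
  have he2 : u2 ∉ Submodule.span K {e} := hu2
  obtain ⟨φ, hφe, hφu, hφy⟩ : ∃ φ : Module.Dual K V, φ e = 0 ∧ φ u2 = 1 ∧
      φ (g y) ∉ Set.range (algebraMap F K) := by
    obtain ⟨φ₀, hφ₀u, hφ₀⟩ := exists_dual_eq_one he2
    by_cases hby : g y ∈ Submodule.span K {e, u2}
    · refine ⟨φ₀, hφ₀ e (Submodule.mem_span_singleton_self e), hφ₀u, ?_⟩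
      rintro ⟨c, hc⟩
      obtain ⟨s, c', hsc⟩ := Submodule.mem_span_pair.1 hby
      have h1 : φ₀ (g y) = c' := by
        rw [← hsc, map_add, map_smul, map_smul, hφ₀ e (Submodule.mem_span_singleton_self e), hφ₀u]
        simp
      have h2 : g (y - c • u0) = s • e := by
        rw [map_sub, map_smul, ← hu2def, ← smul_F_eq (K := K) c u2, hc, h1, ← hsc,
          add_sub_cancel_right]
      have h3 := hclaim (y - c • u0)
        (Submodule.sub_mem _ hy (by rw [← smul_F_eq (K := K)]; exact Submodule.smul_mem _ _ (hUS hu0U)))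
        (fun k hk => by
          rw [map_sub, map_smul, hk.2 u0 hu0U]
          refine Submodule.sub_mem _ (hstay k hk) ?_
          rw [← smul_F_eq (K := K)]; exact Submodule.smul_mem _ _ (hUS hu0U))
        (h2 ▸ Submodule.smul_mem _ _ (Submodule.mem_span_singleton_self e))
      apply hyU
      have := U.add_mem (hAU h3) (U.smul_mem c hu0U)
      rwa [sub_add_cancel] at this
    · obtain ⟨ψ, hψ, hψ0⟩ := exists_dual_eq_one hby
      obtain ⟨γ, hγ⟩ : ∃ γ : K, γ ∉ Set.range (algebraMap F K) := by
        by_contra hcon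
        push Not at hcon
        haveI := Subalgebra.isSimpleOrder_of_finrank_prime F K hr
        exact bot_ne_top (α := Subalgebra F K) (eq_top_iff.2 fun x _ => Algebra.mem_bot.2 (hcon x))
      refine ⟨φ₀ + (γ - φ₀ (g y)) • ψ, ?_, ?_, ?_⟩
      · simp [hφ₀ e (Submodule.mem_span_singleton_self e),
          hψ0 e (Submodule.subset_span (Set.mem_insert _ _))]
      · simp [hφ₀u, hψ0 u2 (Submodule.subset_span (Set.mem_insert_of_mem _ rfl))]
      · simpa [hψ] using hγ
  -- the multipliers of `A`
  let L : Subalgebra F K :=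
    { carrier := {c | ∀ a ∈ A, c • a ∈ A}
      mul_mem' := fun {c d} hc hd a ha => by rw [mul_smul]; exact hc _ (hd a ha)
      one_mem' := fun a ha => by rwa [one_smul]
      add_mem' := fun {c d} hc hd a ha => by rw [add_smul]; exact A.add_mem (hc a ha) (hd a ha)
      zero_mem' := fun a ha => by rw [zero_smul]; exact A.zero_mem
      algebraMap_mem' := fun c a ha => by rw [smul_F_eq]; exact A.smul_mem c ha }
  have hL : L = ⊤ := subalgebra_eq_top hr L (key φ hφe hφu) hφy
  let mul : K →ₗ[F] A :=
    { toFun := fun c => ⟨c • a0, (hL ▸ Algebra.mem_top : c ∈ L) a0 ha0A⟩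
      map_add' := fun c d => Subtype.ext (add_smul c d a0)
      map_smul' := fun c d => Subtype.ext (smul_assoc c d a0) }
  have hinj : Function.Injective mul := fun c d h =>
    smul_left_injective K ha00 (congrArg Subtype.val h)
  have := LinearMap.finrank_le_finrank_of_injective hinj
  omega

end Cfsg.Agent.Lib.ExtFieldMax
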